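import Groth.Agent.CohtopA.BrownW
import Groth.Agent.CohtopA.ExactDer
import Groth.Agent.CohtopA.DModRing
import Mathlib.CategoryTheory.Abelian.GrothendieckCategory.ModuleEmbedding.GabrielPopescu
import Mathlib.CategoryTheory.Localization.Adjunction

/-!
# Right adjoints on derived categories of Grothendieck abelian categories

Any triangulated functor `D(A) ⥤ T` which commutes with small coproducts, `A` Grothendieck abelian and
`T` locally small, has a right adjoint.
-/

set_option autoImplicit false
universe w v u v' u'

open CategoryTheory Limits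

namespace K180.DerAdj

open Groth.Agent.CohtopA

/-- Descent of right adjoints along a localization functor. -/
theorem isLeftAdjoint_of_localization {C₁ D₁ T : Type*} [Category* C₁] [Category* D₁] [Category* T]
    (L : C₁ ⥤ D₁) (W : MorphismProperty C₁) [L.IsLocalization W] (F : D₁ ⥤ T)
    [(L ⋙ F).IsLeftAdjoint] : F.IsLeftAdjoint := by
  let H := (L ⋙ F).rightAdjoint
  let adj : L ⋙ F ⊣ H := Adjunction.ofIsLeftAdjoint _
  have : (𝟭 T).IsLocalization (MorphismProperty.isomorphisms T) :=
    Functor.IsLocalization.for_id _ le_rfl
  letI : CatCommSq (L ⋙ F) L (𝟭 T) F := ⟨Functor.rightUnitor _⟩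
  letI : CatCommSq H (𝟭 T) L (H ⋙ L) := ⟨(Functor.leftUnitor _).symm⟩
  exact (adj.localization L W (𝟭 T) (MorphismProperty.isomorphisms T) F (H ⋙ L)).isLeftAdjoint

variable {A : Type u} [Category.{v} A] [Abelian A] [IsGrothendieckAbelian.{v} A]
  [HasDerivedCategory.{w} A]
  {T : Type u'} [Category.{v'} T] [Preadditive T] [HasZeroObject T] [HasShift T ℤ]
  [∀ n : ℤ, (shiftFunctor T n).Additive] [Pretriangulated T] [LocallySmall.{v} T]

/-- A triangulated functor out of the derived category of a Grothendieck abelian category which
commutes with small coproducts is a left adjoint. -/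
theorem isLeftAdjoint (F : DerivedCategory A ⥤ T) [F.CommShift ℤ] [F.IsTriangulated]
    [∀ (J : Type v), PreservesColimitsOfShape (Discrete J) F] : F.IsLeftAdjoint := by
  let G : A := separator A
  have hG : IsSeparator G := isSeparator_separator A
  let R := (End G)ᵐᵒᵖ
  let _ := DModRing.hasDerivedCategory R
  let E : ModuleCat.{v} R ⥤ A := IsGrothendieckAbelian.tensorObj G
  let adj : E ⊣ preadditiveCoyonedaObj G :=
    IsGrothendieckAbelian.tensorObjPreadditiveCoyonedaObjAdjunction G
  have : (preadditiveCoyonedaObj G).Full := IsGrothendieckAbelian.GabrielPopescu.full G hG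
  have : (preadditiveCoyonedaObj G).Faithful :=
    (isSeparator_iff_faithful_preadditiveCoyonedaObj G).1 hG
  have : PreservesFiniteLimits E := IsGrothendieckAbelian.GabrielPopescu.preservesFiniteLimits G hG
  have : E.Additive := adj.left_adjoint_additive
  have := adj.leftAdjoint_preservesColimits
  have : PreservesFiniteColimits E := inferInstance
  let L := E.mapDerivedCategory
  have hL : L.IsLocalization ((MorphismProperty.isomorphisms _).inverseImage L) :=
    ExactDer.isLocalization_of_rightAdjoint E _ adj
  have : ∀ (J : Type v), PreservesColimitsOfShape (Discrete J) (L ⋙ F) := by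
    intro J
    have h1 : PreservesColimitsOfShape (Discrete J) L :=
      ExactDer.preservesCoproducts_mapDerivedCategory E J
    infer_instance
  have hcomp : (L ⋙ F).IsLeftAdjoint :=
    BrownW.isLeftAdjoint.{v} (κ := PUnit.{v + 1}) _
      (fun _ => BrownW.isCompactW_of_isCompactObject (DModRing.isCompactObject_single R 0))
      (DModRing.generates_single R) (L ⋙ F)
  exact isLeftAdjoint_of_localization L ((MorphismProperty.isomorphisms _).inverseImage L) F

end K180.DerAdj
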