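import Groth.Agent.ModSite.K292.FT
import Groth.Agent.ModSite.K292.FP

/-!
# Finite presentation of zero and of direct sums on a ringed space
-/

set_option autoImplicit false

universe u

open CategoryTheory CategoryTheory.Limits Opposite TopologicalSpace

namespace K180.FPBiprod

open K292.Sp Groth.Agent.Gaga.H976.TM3

variable {T : TopCat.{u}} {R : Sheaf (Opens.grothendieckTopology T) RingCat.{u}}

lemma ap_add {M N : SheafOfModules.{u} R} (f g : M ⟶ N) (U : Opens T)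
    (t : M.val.obj (op U)) : ap (f + g) U t = ap f U t + ap g U t := rfl

theorem isFinitePresentation_of_isZero {M : SheafOfModules.{u} R} (hM : IsZero M) :
    M.IsFinitePresentation := by
  refine (isFinitePresentation_iff _).2 fun x => ?_
  have h0 : ∀ (U : Opens T) (t : M.val.obj (op U)), t = 0 := fun U t => by
    have h1 : 𝟙 M = 0 := hM.eq_of_src _ _
    have h2 := congrArg (fun f => ap f U t) h1
    simpa only [ap_id, ap_zero] using h2
  refine ⟨⊤, trivial, 0, 0, Fin.elim0, Fin.elim0, ?_, ?_, ?_⟩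
  · intro V hV t y hy
    exact ⟨V, le_rfl, hy, Fin.elim0, by simp [h0 V t]⟩
  · exact fun k => k.elim0
  · intro V hV c hc y hy
    exact ⟨V, le_rfl, hy, Fin.elim0, fun j => j.elim0⟩

lemma total (M N : SheafOfModules.{u} R) (U : Opens T) (t : (M ⊞ N).val.obj (op U)) :
    t = ap (biprod.inl : M ⟶ M ⊞ N) U (ap (biprod.fst : M ⊞ N ⟶ M) U t) +
      ap (biprod.inr : N ⟶ M ⊞ N) U (ap (biprod.snd : M ⊞ N ⟶ N) U t) := by
  have h1 := congrArg (fun f => ap f U t) (biprod.total (X := M) (Y := N))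
  simp only [ap_id, ap_add, ap_comp] at h1
  exact h1.symm

set_option maxHeartbeats 1000000 in
theorem isFinitePresentation_biprod {M N : SheafOfModules.{u} R} (hM : M.IsFinitePresentation)
    (hN : N.IsFinitePresentation) : (M ⊞ N).IsFinitePresentation := by
  refine (isFinitePresentation_iff _).2 fun x => ?_
  obtain ⟨W₁, hx₁, n₁, m₁, s₁', r₁', hs₁', hr₁'⟩ := (isFinitePresentation_iff M).1 hM x
  obtain ⟨W₂, hx₂, n₂, m₂, s₂', r₂', hs₂', hr₂'⟩ := (isFinitePresentation_iff N).1 hN x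
  let W : Opens T := W₁ ⊓ W₂
  have h₁ : W ≤ W₁ := inf_le_left
  have h₂ : W ≤ W₂ := inf_le_right
  obtain ⟨s₁, hs₁, r₁, hr₁⟩ : ∃ s₁ : Fin n₁ → M.val.obj (op W), LGen M W s₁ ∧
    ∃ r₁ : Fin m₁ → Fin n₁ → R.obj.obj (op W), LRel M W s₁ r₁ :=
    ⟨_, lgen_mono hs₁' h₁, _, lrel_mono hr₁' h₁⟩
  obtain ⟨s₂, hs₂, r₂, hr₂⟩ : ∃ s₂ : Fin n₂ → N.val.obj (op W), LGen N W s₂ ∧
    ∃ r₂ : Fin m₂ → Fin n₂ → R.obj.obj (op W), LRel N W s₂ r₂ :=
    ⟨_, lgen_mono hs₂' h₂, _, lrel_mono hr₂' h₂⟩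
  have e1 : ∀ (U : Opens T) (t : M.val.obj (op U)), ap (biprod.fst : M ⊞ N ⟶ M) U
      (ap (biprod.inl : M ⟶ M ⊞ N) U t) = t := fun U t => by
    rw [← ap_comp, biprod.inl_fst, ap_id]
  have e2 : ∀ (U : Opens T) (t : M.val.obj (op U)), ap (biprod.snd : M ⊞ N ⟶ N) U
      (ap (biprod.inl : M ⟶ M ⊞ N) U t) = 0 := fun U t => by
    rw [← ap_comp, biprod.inl_snd, ap_zero]
  have e3 : ∀ (U : Opens T) (t : N.val.obj (op U)), ap (biprod.fst : M ⊞ N ⟶ M) U
      (ap (biprod.inr : N ⟶ M ⊞ N) U t) = 0 := fun U t => by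
    rw [← ap_comp, biprod.inr_fst, ap_zero]
  have e4 : ∀ (U : Opens T) (t : N.val.obj (op U)), ap (biprod.snd : M ⊞ N ⟶ N) U
      (ap (biprod.inr : N ⟶ M ⊞ N) U t) = t := fun U t => by
    rw [← ap_comp, biprod.inr_snd, ap_id]
  refine ⟨W, ⟨hx₁, hx₂⟩, n₁ + n₂, m₁ + m₂,
    Fin.append (fun i => ap (biprod.inl : M ⟶ M ⊞ N) W (s₁ i))
      (fun i => ap (biprod.inr : N ⟶ M ⊞ N) W (s₂ i)),
    Fin.append (fun k => Fin.append (r₁ k) 0) (fun k => Fin.append 0 (r₂ k)), ?_, ?_, ?_⟩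
  · intro V hV t y hy
    obtain ⟨V₁, k₁, hy₁, c₁, hc₁⟩ := hs₁ V hV (ap (biprod.fst : M ⊞ N ⟶ M) V t) y hy
    obtain ⟨V₂, k₂, hy₂, c₂, hc₂⟩ := hs₂ V₁ (k₁.trans hV)
      (rs N k₁ (ap (biprod.snd : M ⊞ N ⟶ N) V t)) y hy₁
    refine ⟨V₂, k₂.trans k₁, hy₂, Fin.append (fun i => rr k₂ (c₁ i)) c₂, ?_⟩
    rw [Fin.sum_univ_add]
    simp only [Fin.append_left, Fin.append_right]
    rw [total M N V₂ (rs (M ⊞ N) (k₂.trans k₁) t),
      ap_rs (biprod.fst : M ⊞ N ⟶ M) (k₂.trans k₁) t,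
      ap_rs (biprod.snd : M ⊞ N ⟶ N) (k₂.trans k₁) t, ← rs_rs M k₁ k₂, hc₁,
      ← rs_rs N k₁ k₂, hc₂, rs_sum, map_sum, map_sum]
    congr 1
    · refine Finset.sum_congr rfl fun i _ => ?_
      rw [rs_smul, map_smul, rs_rs, ap_rs]
    · refine Finset.sum_congr rfl fun i _ => ?_
      rw [map_smul, ap_rs]
  · intro k
    refine Fin.addCases (fun k => ?_) (fun k => ?_) k
    · rw [Fin.sum_univ_add]
      simp only [Fin.append_left, Fin.append_right, Pi.zero_apply, zero_smul,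
        Finset.sum_const_zero, add_zero]
      rw [← map_zero (ap (biprod.inl : M ⟶ M ⊞ N) W), ← hr₁.1 k, map_sum]
      exact Finset.sum_congr rfl fun j _ => by rw [map_smul]
    · rw [Fin.sum_univ_add]
      simp only [Fin.append_left, Fin.append_right, Pi.zero_apply, zero_smul,
        Finset.sum_const_zero, zero_add]
      rw [← map_zero (ap (biprod.inr : N ⟶ M ⊞ N) W), ← hr₂.1 k, map_sum]
      exact Finset.sum_congr rfl fun j _ => by rw [map_smul]
  · intro V hV c hc y hy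
    rw [Fin.sum_univ_add] at hc
    simp only [Fin.append_left, Fin.append_right] at hc
    have hc1 : ∑ i, c (Fin.castAdd n₂ i) • rs M hV (s₁ i) = 0 := by
      have h := congrArg (ap (biprod.fst : M ⊞ N ⟶ M) V) hc
      rw [map_add, map_sum, map_sum, map_zero] at h
      simpa only [map_smul, ← ap_rs, e1, e3, smul_zero, Finset.sum_const_zero, add_zero] using h
    have hc2 : ∑ i, c (Fin.natAdd n₁ i) • rs N hV (s₂ i) = 0 := by
      have h := congrArg (ap (biprod.snd : M ⊞ N ⟶ N) V) hc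
      rw [map_add, map_sum, map_sum, map_zero] at h
      simpa only [map_smul, ← ap_rs, e2, e4, smul_zero, Finset.sum_const_zero, zero_add] using h
    obtain ⟨V₁, k₁, hy₁, d₁, hd₁⟩ := hr₁.2 V hV _ hc1 y hy
    have hc2' : ∑ i, rr k₁ (c (Fin.natAdd n₁ i)) • rs N (k₁.trans hV) (s₂ i) = 0 := by
      have h := congrArg (rs N k₁) hc2
      rw [rs_sum, map_zero] at h
      simpa only [rs_smul, rs_rs] using h
    obtain ⟨V₂, k₂, hy₂, d₂, hd₂⟩ := hr₂.2 V₁ (k₁.trans hV) _ hc2' y hy₁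
    refine ⟨V₂, k₂.trans k₁, hy₂, Fin.append (fun k => rr k₂ (d₁ k)) d₂, fun j => ?_⟩
    rw [Fin.sum_univ_add]
    simp only [Fin.append_left, Fin.append_right]
    refine Fin.addCases (fun j => ?_) (fun j => ?_) j
    · simp only [Fin.append_left, Pi.zero_apply, map_zero, mul_zero, Finset.sum_const_zero,
        add_zero]
      rw [← rr_rr k₁ k₂, hd₁ j, map_sum]
      exact Finset.sum_congr rfl fun k _ => by rw [map_mul, rr_rr]
    · simp only [Fin.append_right, Pi.zero_apply, map_zero, mul_zero, Finset.sum_const_zero,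
        zero_add]
      have h := hd₂ j
      rw [rr_rr] at h
      exact h

end K180.FPBiprod
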