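import Groth.Agent.ModSite.K291.FreeOn
import Groth.Agent.ModSite.K292.FT
import Mathlib.CategoryTheory.ObjectProperty.Small
import Mathlib.CategoryTheory.Abelian.GrothendieckCategory.Basic
import Mathlib.CategoryTheory.Abelian.GrothendieckCategory.Subobject
import Groth.Agent.S0484

/-!
# Modules of finite type on a ringed space form an essentially small class
-/

set_option autoImplicit false

universe v u

open CategoryTheory CategoryTheory.Limits Opposite TopologicalSpace

namespace K180.FTSmall

section Abstract

/-- The quotients of a given object form an essentially small class. -/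
theorem essentiallySmall_quot {C : Type u} [Category.{v} C] [Abelian C] [WellPowered.{v} C] (G : C) :
    ObjectProperty.EssentiallySmall.{v} (fun F : C => ∃ p : G ⟶ F, Epi p) where
  exists_small_le' := by
    refine ⟨ObjectProperty.ofObj fun A : Subobject G => cokernel A.arrow, inferInstance, ?_⟩
    rintro F ⟨p, hp⟩
    refine ⟨_, ⟨kernelSubobject p⟩, ⟨?_⟩⟩
    let s : KernelFork p := KernelFork.ofι (kernelSubobject p).arrow (kernelSubobject_arrow_comp p)
    have hs : IsLimit s := IsLimit.ofIsoLimit (kernelIsKernel p)
      (Fork.ext (kernelSubobjectIso p).symm (by simp [s]))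
    have hc := Abelian.epiIsCokernelOfKernel s hs
    exact IsColimit.coconePointUniqueUpToIso hc (colimit.isColimit _)

end Abstract

open K292.Sp Groth.Agent.Gaga.H976.TM3 K291.FreeOn

variable {T : TopCat.{u}} (O : Sheaf (Opens.grothendieckTopology T) CommRingCat.{u})

/-- The universal object of which all modules of finite type are quotients. -/
noncomputable def U : ModSite.Mod O := ∐ fun p : Opens T × ULift.{u} ℕ => ModSite.freeOn O p.1

/-- Every module of finite type is a quotient of `U`. -/
theorem exists_epi {F : ModSite.Mod O} (hF : SheafOfModules.IsFiniteType (R := ModSite.ringSh O) F) :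
    ∃ p : U O ⟶ F, Epi p := by
  classical
  let good (W : Opens T) : Prop := ∃ (n : ℕ) (s : Fin n → F.val.obj (op W)), LGen F W s
  let s (W : Opens T) (k : ℕ) : F.val.obj (op W) :=
    if h : good W then (if hk : k < h.choose then h.choose_spec.choose ⟨k, hk⟩ else 0) else 0
  have hs (W : Opens T) (h : good W) : ∃ n : ℕ, LGen F W (fun i : Fin n => s W i.1) := by
    refine ⟨h.choose, ?_⟩
    have h1 : (fun i : Fin h.choose => s W i.1) = h.choose_spec.choose := by
      ext i
      simp only [s, dif_pos h, dif_pos i.2]
    rw [h1]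
    exact h.choose_spec.choose_spec
  let π : U O ⟶ F := Sigma.desc fun p => K291.FreeOn.ofSec (F := F) (U := p.1) (s p.1 p.2.down)
  refine ⟨π, (epi_iff_loc π).2 fun V t x hx => ?_⟩
  obtain ⟨W, hW, n, s', hs'⟩ := (isFiniteType_iff F).1 hF x
  obtain ⟨m, hm⟩ := hs W ⟨n, s', hs'⟩
  obtain ⟨V', h', hx', c, hc⟩ := hm (V ⊓ W) inf_le_right (rs F inf_le_left t) x ⟨hx, hW⟩
  have hVW : V' ≤ W := h'.trans inf_le_right
  let g (i : Fin m) : (U O).val.obj (op W) :=
    ap (Sigma.ι (fun p : Opens T × ULift.{u} ℕ => ModSite.freeOn O p.1) (W, ⟨i.1⟩)) W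
      (K291.FreeOn.gen O W)
  have hg (i : Fin m) : ap π W (g i) = s W i.1 := by
    have h1 := ap_comp (Sigma.ι (fun p : Opens T × ULift.{u} ℕ => ModSite.freeOn O p.1) (W, ⟨i.1⟩))
      π W (K291.FreeOn.gen O W)
    rw [Sigma.ι_desc] at h1
    exact h1.symm.trans (sc_ofSec _)
  refine ⟨V', h'.trans inf_le_left, hx', ∑ i, c i • rs (U O) hVW (g i), ?_⟩
  rw [map_sum, ← rs_rs F inf_le_left h', hc]
  refine Finset.sum_congr rfl fun i _ => ?_
  rw [map_smul, ap_rs, hg]

instance isGrothendieckAbelian : IsGrothendieckAbelian.{u} (ModSite.Mod O) :=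
  Groth.Agent.S0484.result _ (ModSite.ringSh O)

instance essentiallySmall_isFiniteType : ObjectProperty.EssentiallySmall.{u}
    (fun F : ModSite.Mod O => SheafOfModules.IsFiniteType (R := ModSite.ringSh O) F) := by
  have := essentiallySmall_quot (U O)
  exact ObjectProperty.EssentiallySmall.of_le fun F hF => exists_epi O hF

instance essentiallySmall_isFinitePresentation : ObjectProperty.EssentiallySmall.{u}
    (fun F : ModSite.Mod O => SheafOfModules.IsFinitePresentation (R := ModSite.ringSh O) F) := by
  refine ObjectProperty.EssentiallySmall.of_le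
    (Q := fun F : ModSite.Mod O => SheafOfModules.IsFiniteType (R := ModSite.ringSh O) F)
    fun F hF => ?_
  have : SheafOfModules.IsFinitePresentation (R := ModSite.ringSh O) F := hF
  exact inferInstance

end K180.FTSmall
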