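import Groth.Agent.FSch.K180.IndGroth
import Groth.Agent.FSch.K180.FTSmall
import Groth.Agent.FSch.K180.FPBiprod
import Groth.Agent.FSch.K180.DerAdj
import Groth.Prelude.Def_FSch5

/-!
# The class of coherent modules on a locally Noetherian formal system

Reduction of the formal properties of ind-coherent modules to four facts about quasi-coherent modules.
-/

set_option autoImplicit false

universe u

open CategoryTheory CategoryTheory.Limits Opposite TopologicalSpace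

namespace K180.FSchCls

open FSch K180.IndUnion

/-- The four facts about quasi-coherent modules. -/
structure QCFacts (𝔛 : FSch.Sys.{u}) (h𝔛 : 𝔛.IsLocNoethFormal) : Prop where
  qc_of_ind : ∀ (𝔉 : FSch.ModF 𝔛 h𝔛.1),
    (ObjectProperty.ind.{u} fun 𝔊 : FSch.ModF 𝔛 h𝔛.1 => FSch.IsCohF 𝔛 h𝔛.1 𝔊) 𝔉 →
    SheafOfModules.IsQuasicoherent.{u} 𝔉
  ker_im_coker : ∀ {𝔉 𝔊 : FSch.ModF 𝔛 h𝔛.1} [SheafOfModules.IsQuasicoherent.{u} 𝔉]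
    [SheafOfModules.IsQuasicoherent.{u} 𝔊] (φ : 𝔉 ⟶ 𝔊),
    SheafOfModules.IsQuasicoherent.{u} (kernel φ) ∧
      SheafOfModules.IsQuasicoherent.{u} (Abelian.image φ) ∧
      SheafOfModules.IsQuasicoherent.{u} (cokernel φ)
  sub : ∀ {𝔉 𝔊 : FSch.ModF 𝔛 h𝔛.1} (_ : FSch.IsCohF 𝔛 h𝔛.1 𝔉)
    [SheafOfModules.IsQuasicoherent.{u} 𝔊] (ι : 𝔊 ⟶ 𝔉) [Mono ι], FSch.IsCohF 𝔛 h𝔛.1 𝔊
  quot : ∀ {𝔉 𝔊 : FSch.ModF 𝔛 h𝔛.1} (_ : FSch.IsCohF 𝔛 h𝔛.1 𝔉)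
    [SheafOfModules.IsQuasicoherent.{u} 𝔊] (π : 𝔉 ⟶ 𝔊) [Epi π], FSch.IsCohF 𝔛 h𝔛.1 𝔊

variable {𝔛 : FSch.Sys.{u}} {h𝔛 : 𝔛.IsLocNoethFormal}

theorem isQuasicoherent_of_isCohF {𝔛 : FSch.Sys.{u}} (h : 𝔛.IsFormal) {𝔉 : FSch.ModF 𝔛 h}
    (h𝔉 : FSch.IsCohF 𝔛 h 𝔉) : SheafOfModules.IsQuasicoherent.{u} 𝔉 := inferInstance

theorem isCohF_of_iso {𝔛 : FSch.Sys.{u}} (h : 𝔛.IsFormal) {𝔉 𝔊 : FSch.ModF 𝔛 h} (e : 𝔉 ≅ 𝔊)
    (h𝔉 : FSch.IsCohF 𝔛 h 𝔉) : FSch.IsCohF 𝔛 h 𝔊 :=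
  (SheafOfModules.isFinitePresentation.{u} (ModSite.ringSh (𝔛.Osh h))).prop_of_iso e h𝔉

theorem isQuasicoherent_of_iso {𝔛 : FSch.Sys.{u}} (h : 𝔛.IsFormal) {𝔉 𝔊 : FSch.ModF 𝔛 h}
    (e : 𝔉 ≅ 𝔊) (h𝔉 : SheafOfModules.IsQuasicoherent.{u} 𝔉) :
    SheafOfModules.IsQuasicoherent.{u} 𝔊 :=
  (SheafOfModules.isQuasicoherent.{u} (ModSite.ringSh (𝔛.Osh h))).prop_of_iso e h𝔉

variable (H : QCFacts 𝔛 h𝔛)

include H

theorem cohCls : CohCls (fun 𝔊 : FSch.ModF 𝔛 h𝔛.1 => FSch.IsCohF 𝔛 h𝔛.1 𝔊) where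
  iso := ⟨fun e h => isCohF_of_iso h𝔛.1 e h⟩
  zero h := FPBiprod.isFinitePresentation_of_isZero h
  biprod hA hB := FPBiprod.isFinitePresentation_biprod hA hB
  kernel {A B} f hA hB := by
    have h1 := isQuasicoherent_of_isCohF h𝔛.1 hA
    have h2 := isQuasicoherent_of_isCohF h𝔛.1 hB
    have := (H.ker_im_coker f).1
    exact H.sub hA (kernel.ι f)
  cokernel {A B} f hA hB := by
    have h1 := isQuasicoherent_of_isCohF h𝔛.1 hA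
    have h2 := isQuasicoherent_of_isCohF h𝔛.1 hB
    have := (H.ker_im_coker f).2.2
    exact H.quot hB (cokernel.π f)
  img {A B X} p i _ _ hA hX := by
    have h1 := isQuasicoherent_of_isCohF h𝔛.1 hA
    have h2 := H.qc_of_ind _ hX
    have h3 := (H.ker_im_coker (p ≫ i)).2.1
    have : StrongEpi p := strongEpi_of_epi p
    let e : Abelian.image (p ≫ i) ≅ B := (Abelian.imageIsoImage (p ≫ i)) ≪≫
      (image.isoStrongEpiMono p i rfl).symm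
    have h4 := isQuasicoherent_of_iso h𝔛.1 e h3
    exact H.quot hA p
  sub {A B} i _ hA hB := by
    have h2 := H.qc_of_ind _ hB
    exact H.sub hA i

end K180.FSchCls
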