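import Groth.Agent.FSch.K180.IndUnion
import Mathlib.CategoryTheory.Generator.Basic
import Mathlib.CategoryTheory.Limits.FullSubcategory
import Mathlib.CategoryTheory.ObjectProperty.Small
import Mathlib.CategoryTheory.Adjunction.AdjointFunctorTheorems

/-!
# Full abelian subcategories closed under colimits of a Grothendieck abelian category

`P` a class of objects closed under kernels, cokernels, finite products and small colimits with an
essentially small class of objects separating `P`: the full subcategory is Grothendieck abelian and its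
inclusion has a right adjoint.
-/

set_option autoImplicit false
universe v u

open CategoryTheory CategoryTheory.Limits

namespace K180.IndGroth

variable {C : Type u} [Category.{v} C] [Abelian C] [IsGrothendieckAbelian.{v} C]
  (P : ObjectProperty C)

variable {P} in
/-- Closure under small colimits gives all small colimits, preserved by the inclusion. -/
theorem hasColimits (hcol : ∀ (J : Type v) [SmallCategory J], P.IsClosedUnderColimitsOfShape J) :
    HasColimits P.FullSubcategory :=
  ⟨fun J _ => have := hcol J; inferInstance⟩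

variable {P} in
theorem preservesColimits (hcol : ∀ (J : Type v) [SmallCategory J], P.IsClosedUnderColimitsOfShape J) :
    PreservesColimits P.ι :=
  ⟨fun {J} _ => have := hcol J; inferInstance⟩

variable [P.ContainsZero] [P.IsClosedUnderKernels] [P.IsClosedUnderCokernels]
  [P.IsClosedUnderFiniteProducts] [PreservesFiniteLimits P.ι]

/-- The separating condition: maps between objects of `P` are detected by an essentially small class
`Q` of objects of `P`. -/
theorem isGrothendieckAbelian
    (hcol : ∀ (J : Type v) [SmallCategory J], P.IsClosedUnderColimitsOfShape J)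
    (Q : ObjectProperty C) [ObjectProperty.EssentiallySmall.{v} Q] (hQP : Q ≤ P)
    (hsep : ∀ {X Y : C} (f g : X ⟶ Y), P X → P Y →
      (∀ (A : C) (h : A ⟶ X), Q A → h ≫ f = h ≫ g) → f = g) :
    IsGrothendieckAbelian.{v} P.FullSubcategory := by
  have := hasColimits hcol
  have := preservesColimits hcol
  have h1 : HasFilteredColimitsOfSize.{v, v} P.FullSubcategory := inferInstance
  have h2 : AB5OfSize.{v, v} P.FullSubcategory := ⟨fun J _ _ => by
    exact HasExactColimitsOfShape.domain_of_functor J P.ι⟩
  have h3 : HasSeparator P.FullSubcategory := by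
    obtain ⟨Q', _, hQ', hQ''⟩ := ObjectProperty.EssentiallySmall.exists_small_le.{v} Q
    let I := Shrink.{v} (Subtype Q')
    let e : I ≃ Subtype Q' := (equivShrink _).symm
    let f : I → P.FullSubcategory := fun i => ⟨(e i).1, hQP _ (hQ' _ (e i).2)⟩
    refine ⟨∐ f, ?_⟩
    rw [isSeparator_sigma]
    intro X Y a b hab
    refine ObjectProperty.hom_ext _ (hsep a.hom b.hom X.2 Y.2 fun A h hA => ?_)
    obtain ⟨A', hA', ⟨i⟩⟩ := hQ'' _ hA
    let j : I := e.symm ⟨A', hA'⟩
    have hj : (e j).1 = A' := by simp [j]
    have h4 := hab (f j) (ObjectProperty.ofObj_apply f j)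
      (ObjectProperty.homMk (eqToHom hj ≫ i.inv ≫ h))
    have h5 := congrArg (fun t => t.hom) h4
    have h6 : (eqToHom hj ≫ i.inv ≫ h) ≫ a.hom = (eqToHom hj ≫ i.inv ≫ h) ≫ b.hom := h5
    have h7 : Epi (eqToHom hj ≫ i.inv) := inferInstance
    rw [← cancel_epi (eqToHom hj ≫ i.inv), ← Category.assoc, ← Category.assoc]
    simpa only [Category.assoc] using h6
  exact ⟨inferInstance, h1, h2, h3⟩

/-- The inclusion has a right adjoint. -/
theorem isLeftAdjoint_ι
    (hcol : ∀ (J : Type v) [SmallCategory J], P.IsClosedUnderColimitsOfShape J)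
    (Q : ObjectProperty C) [ObjectProperty.EssentiallySmall.{v} Q] (hQP : Q ≤ P)
    (hsep : ∀ {X Y : C} (f g : X ⟶ Y), P X → P Y →
      (∀ (A : C) (h : A ⟶ X), Q A → h ≫ f = h ≫ g) → f = g) : P.ι.IsLeftAdjoint := by
  have := hasColimits hcol
  have := preservesColimits hcol
  have := isGrothendieckAbelian P hcol Q hQP hsep
  have h1 : WellPowered.{v} (P.FullSubcategory)ᵒᵖ := inferInstance
  exact isLeftAdjoint_of_preservesColimits_of_isSeparating
    (isSeparator_separator P.FullSubcategory) P.ι

omit [Abelian C] [IsGrothendieckAbelian.{v} C] [P.ContainsZero] [P.IsClosedUnderKernels]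
  [P.IsClosedUnderCokernels] [P.IsClosedUnderFiniteProducts] [PreservesFiniteLimits P.ι] in
/-- The separating condition for `P = Q.ind`. -/
theorem sep_ind (Q : ObjectProperty C) {X Y : C} (f g : X ⟶ Y) (hX : ObjectProperty.ind.{v} Q X)
    (h : ∀ (A : C) (h : A ⟶ X), Q A → h ≫ f = h ≫ g) : f = g := by
  obtain ⟨J, _, _, pres, hJ⟩ := hX
  exact pres.isColimit.hom_ext fun j => h _ _ (hJ j)

end K180.IndGroth
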