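import Groth.Agent.FSch.K180.DerAdj
import Groth.Agent.FSch.K180.IndGroth
import Groth.Agent.Cohder.SerreVerdier

/-!
# Right adjoints of functors out of the derived category of a full abelian subcategory

`P` a property of objects of a Grothendieck abelian category `C`, closed under kernels, cokernels and all
small colimits, such that `P.FullSubcategory` is Grothendieck abelian; `R : D(C) ⥤ T` triangulated and
preserving coproducts of complexes with cohomology in `P`.

* `comp_isLeftAdjoint`: `D(P) ⥤ D(C) ⥤ T` has a right adjoint;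
* `restrict_isLeftAdjoint`: if moreover `D(P) ⥤ D(C)` is fully faithful with essential image `Q` then
  `Q.ι ⋙ R` has a right adjoint.
-/

set_option autoImplicit false

universe w w' v u v' u'

open CategoryTheory CategoryTheory.Limits

namespace K180.DerRes

section Equiv

variable {D : Type*} [Category* D] {E : Type*} [Category* E] {T : Type*} [Category* T]

/-- A functor restricted to the essential image of a fully faithful functor. -/
theorem restrict_isLeftAdjoint (L : D ⥤ E) [L.Full] [L.Faithful] (Q : ObjectProperty E)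
    (hQ : ∀ G, L.essImage G ↔ Q G) (R : E ⥤ T) (h : (L ⋙ R).IsLeftAdjoint) :
    (Q.ι ⋙ R).IsLeftAdjoint := by
  let L' : D ⥤ Q.FullSubcategory := Q.lift L fun X => (hQ _).1 (L.obj_mem_essImage X)
  have e0 : L' ⋙ Q.ι ≅ L := Q.liftCompιIso L _
  have h1 : L'.EssSurj := ⟨fun Y => by
    obtain ⟨X, ⟨e⟩⟩ := (hQ Y.obj).2 Y.property
    exact ⟨X, ⟨Q.ι.preimageIso ((e0.app X) ≪≫ e)⟩⟩⟩
  have h2 : L'.IsEquivalence := {}
  have e : Q.ι ⋙ R ≅ L'.inv ⋙ (L ⋙ R) :=
    (Functor.leftUnitor _).symm ≪≫ Functor.isoWhiskerRight L'.asEquivalence.counitIso.symm (Q.ι ⋙ R) ≪≫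
      Functor.associator _ _ _ ≪≫ Functor.isoWhiskerLeft L'.inv
        ((Functor.associator _ _ _).symm ≪≫ Functor.isoWhiskerRight e0 R)
  have h3 : (L'.inv ⋙ (L ⋙ R)).IsLeftAdjoint := inferInstance
  exact Functor.isLeftAdjoint_of_iso e.symm

end Equiv

variable {C : Type u} [Category.{v} C] [Abelian C] [IsGrothendieckAbelian.{v} C]
  (P : ObjectProperty C) [P.ContainsZero] [P.IsClosedUnderKernels] [P.IsClosedUnderCokernels]
  [P.IsClosedUnderFiniteProducts] [PreservesFiniteLimits P.ι] [PreservesFiniteColimits P.ι]
  [IsGrothendieckAbelian.{v} P.FullSubcategory]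
  (hcol : ∀ (J : Type v) [SmallCategory J], P.IsClosedUnderColimitsOfShape J)
  [HasDerivedCategory.{w} P.FullSubcategory] [HasDerivedCategory.{w'} C]

include hcol

theorem preservesCoproducts (J : Type v) :
    PreservesColimitsOfShape (Discrete J) P.ι.mapDerivedCategory := by
  have := IndGroth.preservesColimits (P := P) hcol
  exact Groth.Agent.CohtopA.ExactDer.preservesCoproducts_mapDerivedCategory _ J

variable [P.IsClosedUnderIsomorphisms]
  {T : Type u'} [Category.{v'} T] [Preadditive T] [HasZeroObject T] [HasShift T ℤ]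
  [∀ n : ℤ, (shiftFunctor T n).Additive] [Pretriangulated T] [LocallySmall.{v} T]

/-- A triangulated functor `R : D(C) ⥤ T` which preserves coproducts of objects with cohomology in `P`
has, restricted along `D(P) ⥤ D(C)`, a right adjoint. -/
theorem comp_isLeftAdjoint (R : DerivedCategory C ⥤ T) [R.CommShift ℤ] [R.IsTriangulated]
    (hR : ∀ (J : Type v) (E : J → DerivedCategory C),
      (∀ j i, P ((DerivedCategory.homologyFunctor C i).obj (E j))) →
      PreservesColimit (Discrete.functor E) R) :
    (P.ι.mapDerivedCategory ⋙ R).IsLeftAdjoint := by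
  have := fun J => preservesCoproducts P hcol J
  have key : ∀ (J : Type v), PreservesColimitsOfShape (Discrete J)
      (P.ι.mapDerivedCategory ⋙ R) := by
    intro J
    constructor
    intro K
    let L := P.ι.mapDerivedCategory
    let E : J → DerivedCategory C := fun j => L.obj (K.obj ⟨j⟩)
    have h1 : PreservesColimit (Discrete.functor E) R := by
      refine hR J E fun j i => ?_
      obtain ⟨e⟩ := Groth.Agent.Cohder.SerreVerdier.nonempty_homology_iso P.ι i (K.obj ⟨j⟩)
      exact ObjectProperty.prop_of_iso _ e.symm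
        ((DerivedCategory.homologyFunctor _ i).obj (K.obj ⟨j⟩)).2
    have h2 : PreservesColimit (K ⋙ L) R :=
      preservesColimit_of_iso_diagram (K₁ := Discrete.functor E) R
        (Discrete.natIso fun j => Iso.refl _)
    exact comp_preservesColimit L R
  exact DerAdj.isLeftAdjoint _

end K180.DerRes
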