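import Groth.Agent.FSch.K180.IndGroth
import Groth.Agent.FSch.K180.DerAdj
import Groth.Agent.LoccohB.RpushTri
import Mathlib.CategoryTheory.Abelian.Subcategory

/-!
# Consequences for the full subcategory of ind-coherent objects
-/

set_option autoImplicit false

universe w w' v u

open CategoryTheory CategoryTheory.Limits ZeroObject

namespace K180.IndUnion.CohCls

section

variable {C : Type u} [Category.{v} C] [Abelian C] [IsGrothendieckAbelian.{v} C]
  {Q : ObjectProperty C} (hQ : CohCls Q)

include hQ

theorem hcol (J : Type v) [SmallCategory J] :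
    (ObjectProperty.ind.{v} Q).IsClosedUnderColimitsOfShape J :=
  hQ.ind_isClosedUnderColimitsOfShape J

omit [IsGrothendieckAbelian.{v} C] in
theorem containsZero : (ObjectProperty.ind.{v} Q).ContainsZero where
  exists_zero := ⟨0, isZero_zero C, Q.le_ind _ (hQ.zero (isZero_zero C))⟩

theorem isClosedUnderKernels : (ObjectProperty.ind.{v} Q).IsClosedUnderKernels where
  kernels_le := by
    rintro K ⟨f, k, hk, h1, h2⟩
    have h3 := hQ.ind_kernel f h1 h2
    exact ObjectProperty.prop_of_iso _
      (IsLimit.conePointUniqueUpToIso (limit.isLimit (parallelPair f 0)) hk) h3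

theorem isClosedUnderCokernels : (ObjectProperty.ind.{v} Q).IsClosedUnderCokernels where
  cokernels_le := by
    rintro K ⟨f, k, hk, h1, h2⟩
    have h3 := hQ.ind_cokernel f h1 h2
    exact ObjectProperty.prop_of_iso _
      (IsColimit.coconePointUniqueUpToIso (colimit.isColimit (parallelPair f 0)) hk) h3

theorem isClosedUnderFiniteProducts :
    (ObjectProperty.ind.{v} Q).IsClosedUnderFiniteProducts where
  isClosedUnderLimitsOfShape J _ := by
    constructor
    rintro X ⟨p⟩
    have h0 : (ObjectProperty.ind.{v} Q).IsClosedUnderColimitsOfShape (Discrete (ULift.{v} J)) :=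
      hQ.hcol _
    have h1 : (ObjectProperty.ind.{v} Q).IsClosedUnderColimitsOfShape (Discrete J) :=
      ObjectProperty.IsClosedUnderColimitsOfShape.of_equivalence
        (Discrete.equivalence Equiv.ulift.{v})
    let f : J → C := fun j => p.diag.obj ⟨j⟩
    let e : Discrete.functor f ≅ p.diag := Discrete.natIso fun _ => Iso.refl _
    have h2 : ObjectProperty.ind.{v} Q (∐ f) :=
      (ObjectProperty.ind.{v} Q).prop_of_isColimit (colimit.isColimit (Discrete.functor f))
        (fun j => p.prop_diag_obj j)
    have h4 : HasFiniteBiproducts C := HasFiniteBiproducts.of_hasFiniteProducts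
    have h3 : HasBiproduct f := inferInstance
    let e' : (∏ᶜ f) ≅ X := (HasLimit.isoOfNatIso e) ≪≫
      IsLimit.conePointUniqueUpToIso (limit.isLimit p.diag) p.isLimit
    exact ObjectProperty.prop_of_iso _
      ((biproduct.isoCoproduct f).symm ≪≫ biproduct.isoProduct f ≪≫ e') h2

end

end K180.IndUnion.CohCls

namespace K180.IndCls

variable {C : Type u} [Category.{v} C] [Abelian C] (P : ObjectProperty C)
  [P.ContainsZero] [P.IsClosedUnderKernels] [P.IsClosedUnderCokernels]
  [P.IsClosedUnderFiniteProducts]

/-- The inclusion of a full subcategory closed under kernels and finite products is left exact. -/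
theorem preservesFiniteLimits_ι : PreservesFiniteLimits P.ι := by
  have h1 : ∀ {X Y : P.FullSubcategory} (f : X ⟶ Y), PreservesLimit (parallelPair f 0) P.ι :=
    fun f => P.preservesKernels_ι f
  exact Functor.preservesFiniteLimits_of_preservesKernels P.ι

theorem preservesFiniteColimits_ι : PreservesFiniteColimits P.ι := by
  have h1 : ∀ {X Y : P.FullSubcategory} (f : X ⟶ Y), PreservesColimit (parallelPair f 0) P.ι :=
    fun f => P.preservesCokernels_ι f
  exact Functor.preservesFiniteColimits_of_preservesCokernels P.ι

end K180.IndCls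

namespace K180.IndUnion.CohCls

variable {C : Type u} [Category.{v} C] [Abelian C] [IsGrothendieckAbelian.{v} C]
  {Q : ObjectProperty C} (hQ : CohCls Q) [ObjectProperty.EssentiallySmall.{v} Q]

include hQ

/-- The inclusion of ind-coherent objects has a right adjoint. -/
theorem isLeftAdjoint_ι : (ObjectProperty.ind.{v} Q).ι.IsLeftAdjoint := by
  have := hQ.containsZero
  have := hQ.isClosedUnderKernels
  have := hQ.isClosedUnderCokernels
  have := hQ.isClosedUnderFiniteProducts
  have := IndCls.preservesFiniteLimits_ι (ObjectProperty.ind.{v} Q)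
  exact IndGroth.isLeftAdjoint_ι _ (fun J _ => hQ.hcol J) Q Q.le_ind
    (fun f g hX _ h => IndGroth.sep_ind Q f g hX h)

variable [(ObjectProperty.ind.{v} Q).ContainsZero] [(ObjectProperty.ind.{v} Q).IsClosedUnderKernels]
  [(ObjectProperty.ind.{v} Q).IsClosedUnderCokernels]
  [(ObjectProperty.ind.{v} Q).IsClosedUnderFiniteProducts]

theorem isGrothendieckAbelian :
    IsGrothendieckAbelian.{v} (ObjectProperty.ind.{v} Q).FullSubcategory := by
  have := IndCls.preservesFiniteLimits_ι (ObjectProperty.ind.{v} Q)
  exact IndGroth.isGrothendieckAbelian _ (fun J _ => hQ.hcol J) Q Q.le_ind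
    (fun f g hX _ h => IndGroth.sep_ind Q f g hX h)

variable [PreservesFiniteLimits (ObjectProperty.ind.{v} Q).ι]
  [PreservesFiniteColimits (ObjectProperty.ind.{v} Q).ι]
  [HasDerivedCategory.{w} (ObjectProperty.ind.{v} Q).FullSubcategory] [HasDerivedCategory.{w'} C]

theorem preservesCoproducts (J : Type v) :
    PreservesColimitsOfShape (Discrete J) (ObjectProperty.ind.{v} Q).ι.mapDerivedCategory := by
  have := hQ.isGrothendieckAbelian
  have := IndGroth.preservesColimits (P := ObjectProperty.ind.{v} Q) (fun J _ => hQ.hcol J)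
  exact Groth.Agent.CohtopA.ExactDer.preservesCoproducts_mapDerivedCategory _ J

/-- `D(A) ⥤ D(C)` has a right adjoint. -/
theorem mapDerivedCategory_isLeftAdjoint :
    (ObjectProperty.ind.{v} Q).ι.mapDerivedCategory.IsLeftAdjoint := by
  have := hQ.isGrothendieckAbelian
  have := fun J => hQ.preservesCoproducts J
  have : LocallySmall.{v} (DerivedCategory C) :=
    Groth.Agent.LoccohB.RpushTri.locallySmall_derivedCategory
      Groth.Agent.LoccohB.RpushTri.hasKInj
  exact DerAdj.isLeftAdjoint _

end K180.IndUnion.CohCls
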