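import Groth.Agent.FSch.K180.IndUnion

/-!
# The directed family of `Q`-subobjects of an ind-`Q` object
-/

set_option autoImplicit false

universe v u

open CategoryTheory CategoryTheory.Limits

namespace K180.IndUnion.CohCls

variable {C : Type u} [Category.{v} C] [Abelian C] [IsGrothendieckAbelian.{v} C]
  {Q : ObjectProperty C} (hQ : CohCls Q)

include hQ

theorem sub_nonempty (X : C) : {A : Subobject X | Q (A : C)}.Nonempty := by
  have := hQ.iso
  exact ⟨⊥, hQ.zero ((isZero_zero _).of_iso Subobject.botCoeIsoZero)⟩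

theorem sub_directedOn {X : C} (hX : ObjectProperty.ind.{v} Q X) :
    DirectedOn (· ≤ ·) {A : Subobject X | Q (A : C)} := by
  intro A hA B hB
  obtain ⟨D, hD, h1, h2⟩ := hQ.exists_ge (hQ.ind_iff.1 hX).1 A B hA hB
  exact ⟨D, hD, h1, h2⟩

theorem sub_sup {X : C} (hX : ObjectProperty.ind.{v} Q X) (P : Subobject X)
    (hP : ∀ A ∈ {A : Subobject X | Q (A : C)}, A ≤ P) : P = ⊤ := by
  rw [eq_top_iff, ← (hQ.ind_iff.1 hX).2]
  exact sSup_le hP

/-- An object is ind-`Q` if images of `Q`-objects in it are `Q` and there are enough of them. -/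
theorem ind_of_img {X : C}
    (h1 : ∀ {A B : C} (p : A ⟶ B) (i : B ⟶ X) [Epi p] [Mono i], Q A → Q B)
    (h2 : ∀ P : Subobject X, (∀ A : Subobject X, Q (A : C) → A ≤ P) → P = ⊤) :
    ObjectProperty.ind.{v} Q X := by
  refine hQ.ind_iff.2 ⟨h1, h2 _ fun A hA => ?_⟩
  exact le_sSup hA

end K180.IndUnion.CohCls
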