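import Groth.Agent.FSch.K180.ExtLoc
import Groth.Agent.FSch.K180.IndCls
import Groth.Agent.FSch.K180.IndSub
import Groth.Agent.FSch.K180.FTSmall
import Groth.Agent.FSch.K180.FPBiprod

/-!
# Extensions of ind-coherent modules on a Noetherian ringed space
-/

set_option autoImplicit false

universe u

open CategoryTheory CategoryTheory.Limits Opposite TopologicalSpace

namespace K180.ExtClosed

open K29.RSec Groth.Agent.Gaga.H976.TM3 K292.Sp K180.FRel K180.SubSh K180.ExtLoc K180.IndUnion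
open Groth.Agent.Gaga.H985.CohMod (CohAt)

variable {T : TopCat.{u}} (R : Sheaf (Opens.grothendieckTopology T) CommRingCat.{u})

/-- The class of modules of finite presentation. -/
abbrev FP : ObjectProperty (Mod R) := fun M => SheafOfModules.IsFinitePresentation (R := ringSheaf R) M

variable {R} (hQ : CohCls (FP R))
  (hR : ∀ (M : Mod R), ObjectProperty.ind.{u} (FP R) M → ∀ x, RAt (R := ringSheaf R) M x)

instance : IsGrothendieckAbelian.{u} (Mod R) := FTSmall.isGrothendieckAbelian R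

include hQ

/-- Sections of an ind-coherent module are locally in coherent submodules. -/
theorem exists_mem {M : Mod R} (hM : ObjectProperty.ind.{u} (FP R) M) (V : Opens T)
    (t : Sec M V) (x : T) (hx : x ∈ V) : ∃ (W : Opens T) (_ : x ∈ W) (h : W ≤ V),
      ∃ A : Subobject M, FP R (A : Mod R) ∧ ∃ s : Sec (A : Mod R) W,
        app A.arrow W s = res M h t := by
  obtain ⟨W, hx, h, A, hA, hs⟩ :=
    exists_mem_of_sSup _ (hQ.sub_nonempty M) (hQ.sub_directedOn hM) (hQ.sub_sup hM) V t x hx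
  exact ⟨W, hx, h, A, hA, hs⟩

omit hQ in
/-- The local overlap condition at a point. -/
def Ok {G B : Mod R} (b : B ⟶ G) {W W' : Opens T} {n' : ℕ} (t : Sec G W)
    (s' : Fin n' → Sec G W') (y : T) : Prop :=
  ∃ (V' : Opens T) (_ : y ∈ V') (h : V' ≤ W) (h' : V' ≤ W') (a : Fin n' → O R V') (c : Sec B V'),
    res G h t = ∑ l, a l • res G h' (s' l) + app b V' c

omit hQ in
theorem Ok.mono {G B B' : Mod R} {b : B ⟶ G} {b' : B' ⟶ G} (β : B ⟶ B') (hβ : β ≫ b' = b)
    {W W' : Opens T} {n' : ℕ} {t : Sec G W} {s' : Fin n' → Sec G W'} {y : T}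
    (h : Ok b t s' y) : Ok b' t s' y := by
  obtain ⟨V', hy, h, h', a, c, e⟩ := h
  exact ⟨V', hy, h, h', a, app β V' c, by rw [← app_comp, hβ, e]⟩

omit hQ in
theorem isOpen_ok {G B : Mod R} (b : B ⟶ G) {W W' : Opens T} {n' : ℕ} (t : Sec G W)
    (s' : Fin n' → Sec G W') : IsOpen {y | Ok b t s' y} := by
  rw [isOpen_iff_mem_nhds]
  rintro y ⟨V', hy, h, h', a, c, e⟩
  exact Filter.mem_of_superset (V'.2.mem_nhds hy) fun z hz => ⟨V', hz, h, h', a, c, e⟩

theorem exists_ok [NoetherianSpace T] (S : ShortComplex (Mod R)) (hS : S.ShortExact)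
    (h₁ : ObjectProperty.ind.{u} (FP R) S.X₁) {W W' : Opens T} {n' : ℕ} (t : Sec S.X₂ W)
    (s' : Fin n' → Sec S.X₂ W')
    (h : ∀ y ∈ W, y ∈ W' → ∃ (V' : Opens T) (_ : y ∈ V') (h : V' ≤ W) (h' : V' ≤ W')
      (a : Fin n' → O R V'), app S.g V' (res S.X₂ h t) =
        ∑ l, a l • app S.g V' (res S.X₂ h' (s' l))) :
    ∃ A : Subobject S.X₁, FP R (A : Mod R) ∧
      ∀ y ∈ W, y ∈ W' → Ok (A.arrow ≫ S.f) t s' y := by
  have hne := hQ.sub_nonempty S.X₁
  have hne' : Nonempty {A : Subobject S.X₁ | FP R (A : Mod R)} := hne.to_subtype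
  have hc : IsCompact ((W ⊓ W' : Opens T) : Set T) := NoetherianSpace.isCompact _
  obtain ⟨A, hA⟩ := hc.elim_directed_cover
    (fun A : {A : Subobject S.X₁ | FP R (A : Mod R)} => {y | Ok (A.1.arrow ≫ S.f) t s' y})
    (fun A => isOpen_ok _ _ _) (fun y hy => by
      obtain ⟨V', hyV', k, k', a, e⟩ := h y hy.1 hy.2
      have h0 : app S.g V' (res S.X₂ k t - ∑ l, a l • res S.X₂ k' (s' l)) = 0 := by
        rw [map_sub, e, map_sum, sub_eq_zero]
        exact Finset.sum_congr rfl fun l _ => (map_smul (app S.g V') _ _).symm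
      obtain ⟨V₁, k₁, hy₁, c, hc⟩ := exact_loc hS.exact _ h0 y hyV'
      obtain ⟨V₂, hy₂, k₂, A, hA, c', hc'⟩ := exists_mem hQ h₁ V₁ c y hy₁
      refine Set.mem_iUnion.2 ⟨⟨A, hA⟩, V₂, hy₂, k₂.trans (k₁.trans k), k₂.trans (k₁.trans k'),
        fun l => resO k₂ (resO k₁ (a l)), c', ?_⟩
      have e1 : app (A.arrow ≫ S.f) V₂ c' = res S.X₂ k₂ (app S.f V₁ c) := by
        rw [app_comp, hc', app_res]
      have e2 : app S.f V₁ c = res S.X₂ k₁ (res S.X₂ k t - ∑ l, a l • res S.X₂ k' (s' l)) := hc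
      rw [e1, e2]
      simp only [map_sub, map_sum, res_smul, res_res]
      exact (add_sub_cancel _ _).symm)
    (by
      intro A B
      obtain ⟨D, hD, l₁, l₂⟩ := hQ.sub_directedOn h₁ A.1 A.2 B.1 B.2
      refine ⟨⟨D, hD⟩, fun y hy => hy.mono (Subobject.ofLE A.1 D l₁) ?_,
        fun y hy => hy.mono (Subobject.ofLE B.1 D l₂) ?_⟩ <;>
      rw [← Category.assoc, Subobject.ofLE_arrow])
  exact ⟨A.1, A.2, fun y h1 h2 => hA ⟨h1, h2⟩⟩

set_option maxHeartbeats 2000000 in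
/-- A morphism of a module of finite type to the quotient lifts locally to a coherent submodule. -/
theorem exists_coh_lift [NoetherianSpace T] (S : ShortComplex (Mod R)) (hS : S.ShortExact)
    (h₁ : ObjectProperty.ind.{u} (FP R) S.X₁) (hG : ∀ x, RAt (R := ringSheaf R) S.X₂ x)
    {H₀ : Mod R} (hH : SheafOfModules.IsFiniteType (R := ringSheaf R) H₀) (i₀ : H₀ ⟶ S.X₃) :
    ∃ A : Subobject S.X₂, FP R (A : Mod R) ∧ ∀ (V : Opens T) (h : Sec H₀ V) (y : T), y ∈ V →
      ∃ (V' : Opens T) (_ : y ∈ V') (k : V' ≤ V) (t : Sec (A : Mod R) V'),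
        app S.g V' (app A.arrow V' t) = res S.X₃ k (app i₀ V h) := by
  have := hQ.iso
  choose W hxW n η hη using fun x => (isFiniteType_iff H₀).1 hH x
  choose V hVW hxV t ht using fun x => K292.FT.exists_lifts S.g hS.epi_g
    (fun j => ap i₀ (W x) (η x j)) x (hxW x)
  have ht' : ∀ x j, app S.g (V x) (t x j) = app i₀ (V x) (res H₀ (hVW x) (η x j)) :=
    fun x j => (ht x j).trans (ap_rs i₀ (hVW x) (η x j)).symm
  obtain ⟨F, hF⟩ := isCompact_univ.elim_finite_subcover (fun x => (V x : Set T))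
    (fun x => (V x).2) (fun x _ => Set.mem_iUnion.2 ⟨x, hxV x⟩)
  have hcov : ∀ y : T, ∃ i : {x // x ∈ F}, y ∈ V i.1 := fun y => by
    obtain ⟨x, hx⟩ := Set.mem_iUnion.1 (hF (Set.mem_univ y))
    obtain ⟨hxF, hy⟩ := Set.mem_iUnion.1 hx
    exact ⟨⟨x, hxF⟩, hy⟩
  have key : ∀ (p : Σ (_ : {x // x ∈ F}) (i : {x // x ∈ F}), Fin (n i.1)),
      ∃ A : Subobject S.X₁, FP R (A : Mod R) ∧
      ∀ y ∈ V p.2.1.1, y ∈ V p.1.1 → Ok (A.arrow ≫ S.f)
        (show Sec S.X₂ (V p.2.1.1) from t p.2.1.1 p.2.2)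
        (fun l => (show Sec S.X₂ (V p.1.1) from t p.1.1 l)) y := by
    rintro ⟨i', i, j⟩
    refine exists_ok hQ S hS h₁ _ _ fun y hy hy' => ?_
    obtain ⟨V', k', hyV', c, hc⟩ := (lgen_iff _).1 (hη i'.1) (V i.1 ⊓ V i'.1)
      (inf_le_right.trans (hVW i'.1)) (res H₀ (inf_le_left.trans (hVW i.1)) (η i.1 j)) y ⟨hy, hy'⟩
    refine ⟨V', hyV', k'.trans inf_le_left, k'.trans inf_le_right, c, ?_⟩
    have h2 : ∀ l, app S.g V' (res S.X₂ (k'.trans inf_le_right) (t i'.1 l)) =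
        app i₀ V' (res H₀ ((k'.trans inf_le_right).trans (hVW i'.1)) (η i'.1 l)) := fun l => by
      rw [app_res, ht', ← app_res, res_res]
    have h3 : app S.g V' (res S.X₂ (k'.trans inf_le_left) (t i.1 j)) =
        app i₀ V' (res H₀ ((k'.trans inf_le_left).trans (hVW i.1)) (η i.1 j)) := by
      rw [app_res, ht', ← app_res, res_res]
    refine h3.trans ?_
    have h4 := congrArg (app i₀ V') hc
    rw [res_res, map_sum] at h4
    refine h4.trans (Finset.sum_congr rfl fun l _ => ?_)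
    rw [map_smul]
    exact congrArg (c l • ·) (h2 l).symm
  choose A hA hok using key
  have hne : Nonempty {A : Subobject S.X₁ | FP R (A : Mod R)} :=
    (hQ.sub_nonempty S.X₁).to_subtype
  obtain ⟨⟨B, hB⟩, hAB⟩ := (directedOn_iff_directed.1 (hQ.sub_directedOn h₁)).finite_le
    (fun p => (⟨A p, hA p⟩ : {A : Subobject S.X₁ | FP R (A : Mod R)}))
  let b : (B : Mod R) ⟶ S.X₂ := B.arrow ≫ S.f
  let W' : {x // x ∈ F} → Opens T := fun i => V i.1
  let n' : {x // x ∈ F} → ℕ := fun i => n i.1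
  let s' : ∀ i : {x // x ∈ F}, Fin (n' i) → Sec S.X₂ (W' i) := fun i l => t i.1 l
  have ho : Overlap b W' n' s' := by
    intro i i' j y hy hy'
    have h2 : Ok b (s' i j) (s' i') y := by
      refine (hok ⟨i', i, j⟩ y hy hy').mono (Subobject.ofLE _ B (hAB ⟨i', i, j⟩)) ?_
      rw [← Category.assoc, Subobject.ofLE_arrow]
    exact h2
  let D := genData b W' n' s'
  have hD : FP R D.mod := by
    refine isFinitePresentation_of_rAt (R := ringSheaf R) ((isFiniteType_iff _).2 fun y => ?_)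
      fun y => rAt_of_mono D.ι (hG y)
    obtain ⟨i, hi⟩ := hcov y
    have h2 : FTAt (R := ringSheaf R) (B : Mod R) y := by
      have h3 : SheafOfModules.IsFinitePresentation (R := ringSheaf R) (B : Mod R) := hB
      exact (isFiniteType_iff _).1 inferInstance y
    exact ftAt_genData ho h2 hi
  refine ⟨Subobject.mk D.ι, (FP R).prop_of_iso (Subobject.underlyingIso D.ι).symm hD, ?_⟩
  intro V₀ h y hy
  obtain ⟨i, hi⟩ := hcov y
  obtain ⟨V₁, k₁, hy₁, c, hc⟩ := (lgen_iff _).1 (hη i.1) (V₀ ⊓ V i.1)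
      (inf_le_right.trans (hVW i.1)) (res H₀ inf_le_left h) y ⟨hy, hi⟩
  have hl : V₁ ≤ V i.1 := k₁.trans inf_le_right
  let τ : Sec D.mod V₁ := ∑ l, c l • (show Sec D.mod V₁ from
    (show D.S V₁ from ⟨res S.X₂ hl (s' i l), D.res_mem hl (s_mem_genData ho i l)⟩))
  have hτ : app D.ι V₁ τ = ∑ l, c l • res S.X₂ hl (s' i l) := by
    rw [map_sum]
    exact Finset.sum_congr rfl fun l _ => (map_smul _ _ _).trans rfl
  refine ⟨V₁, hy₁, k₁.trans inf_le_left, app (Subobject.underlyingIso D.ι).inv V₁ τ, ?_⟩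
  have h3 : app (Subobject.mk D.ι).arrow V₁ (app (Subobject.underlyingIso D.ι).inv V₁ τ) =
      app D.ι V₁ τ := by
    rw [← app_comp, Subobject.underlyingIso_arrow]
  rw [h3, hτ, map_sum]
  have h4 := congrArg (app i₀ V₁) hc
  rw [res_res, map_sum] at h4
  rw [← app_res, h4]
  refine Finset.sum_congr rfl fun l _ => ?_
  rw [map_smul, map_smul]
  have h5 : app S.g V₁ (res S.X₂ hl (t i.1 l)) =
      app i₀ V₁ (res H₀ (hl.trans (hVW i.1)) (η i.1 l)) := by
    rw [app_res, ht', ← app_res, res_res]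
  exact congrArg (c l • ·) h5

include hR in
set_option maxHeartbeats 2000000 in
/-- **Extensions of ind-coherent modules on a Noetherian ringed space are ind-coherent.** -/
theorem ind_ext [NoetherianSpace T] (S : ShortComplex (Mod R)) (hS : S.ShortExact)
    (h₁ : ObjectProperty.ind.{u} (FP R) S.X₁) (h₃ : ObjectProperty.ind.{u} (FP R) S.X₃) :
    ObjectProperty.ind.{u} (FP R) S.X₂ := by
  have := hQ.iso
  have hG : ∀ x, RAt (R := ringSheaf R) S.X₂ x := fun x =>
    rAt_of_shortExact S hS (hR _ h₁ x) (hR _ h₃ x)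
  have himg : ∀ {A B : Mod R} (p : A ⟶ B) (i : B ⟶ S.X₂) [Epi p] [Mono i], FP R A → FP R B := by
    intro A B p i _ _ hA
    have h2 : SheafOfModules.IsFinitePresentation (R := ringSheaf R) A := hA
    exact isFinitePresentation_of_rAt (R := ringSheaf R)
      (isFiniteType_of_epi p inferInstance) fun y => rAt_of_mono i (hG y)
  refine hQ.ind_of_img himg fun P hP => ?_
  have hepi : Epi P.arrow := by
    refine (epi_iff_loc P.arrow).2 fun V t x hx => ?_
    obtain ⟨V₁, hx₁, k₁, A₀, hA₀, h, hh⟩ := exists_mem hQ h₃ V (app S.g V t) x hx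
    have hA₀' : SheafOfModules.IsFinitePresentation (R := ringSheaf R) (A₀ : Mod R) := hA₀
    obtain ⟨A, hA, hlift⟩ := exists_coh_lift hQ S hS h₁ hG (H₀ := (A₀ : Mod R)) inferInstance
      A₀.arrow
    obtain ⟨V₂, hx₂, k₂, t', ht'⟩ := hlift V₁ h x hx₁
    have h0 : app S.g V₂ (res S.X₂ (k₂.trans k₁) t - app A.arrow V₂ t') = 0 := by
      rw [map_sub, ht', hh, app_res, res_res, sub_self]
    obtain ⟨V₃, k₃, hx₃, e, he⟩ := exact_loc hS.exact _ h0 x hx₂
    obtain ⟨V₄, hx₄, k₄, B, hB, e', he'⟩ := exists_mem hQ h₁ V₃ e x hx₃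
    have hmf := hS.mono_f
    have hm : Mono (B.arrow ≫ S.f) := mono_comp _ _
    have l₁ : A ≤ P := hP A hA
    have l₂ : Subobject.mk (B.arrow ≫ S.f) ≤ P :=
      hP _ ((FP R).prop_of_iso (Subobject.underlyingIso _).symm hB)
    let q : (B : Mod R) ⟶ (P : Mod R) := (Subobject.underlyingIso (B.arrow ≫ S.f)).inv ≫
      Subobject.ofLE _ _ l₂
    have hq : q ≫ P.arrow = B.arrow ≫ S.f := by
      rw [Category.assoc, Subobject.ofLE_arrow, Subobject.underlyingIso_arrow]
    refine ⟨V₄, k₄.trans (k₃.trans (k₂.trans k₁)), hx₄,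
      app (Subobject.ofLE A P l₁) V₄ (res _ (k₄.trans k₃) t') + app q V₄ e', ?_⟩
    have e1 : app P.arrow V₄ (app (Subobject.ofLE A P l₁) V₄ (res _ (k₄.trans k₃) t')) =
        res S.X₂ (k₄.trans k₃) (app A.arrow V₂ t') := by
      rw [← app_comp, Subobject.ofLE_arrow, app_res]
    have e2 : app P.arrow V₄ (app q V₄ e') = res S.X₂ k₄ (app S.f V₃ e) := by
      rw [← app_comp, hq, app_comp, he', app_res]
    have e3 : app S.f V₃ e = res S.X₂ k₃ (res S.X₂ (k₂.trans k₁) t - app A.arrow V₂ t') := he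
    have e4 : app P.arrow V₄ (app (Subobject.ofLE A P l₁) V₄ (res _ (k₄.trans k₃) t') +
        app q V₄ e') = res S.X₂ (k₄.trans (k₃.trans (k₂.trans k₁))) t := by
      rw [map_add, e1, e2, e3]
      simp only [map_sub, res_res]
      exact add_sub_cancel _ _
    exact e4
  have : IsIso P.arrow := isIso_of_mono_of_epi _
  exact (Subobject.isIso_arrow_iff_eq_top P).1 this

end K180.ExtClosed
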