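import Groth.Agent.FSch.K180.FRel
import Mathlib.Topology.NoetherianSpace

/-!
# Relations in directed unions; coherent modules mapping onto a coherent quotient
-/

set_option autoImplicit false

universe u

open CategoryTheory CategoryTheory.Limits Opposite TopologicalSpace

namespace K180.ExtLoc

open K29.RSec Groth.Agent.Gaga.H976.TM3 K292.Sp K180.FRel K180.SubSh
open Groth.Agent.Gaga.H985.CohMod (CohAt)

variable {T : TopCat.{u}} {R : Sheaf (Opens.grothendieckTopology T) CommRingCat.{u}}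

theorem lgen_iff {M : Mod R} {W : Opens T} {n : ℕ} (s : Fin n → Sec M W) :
    LGen M W s ↔ ∀ (V : Opens T) (hV : V ≤ W) (t : Sec M V) (x : T), x ∈ V →
    ∃ (V' : Opens T) (h' : V' ≤ V), x ∈ V' ∧ ∃ c : Fin n → O R V',
      res M h' t = ∑ j, c j • res M (h'.trans hV) (s j) := Iff.rfl

theorem lrel_forward {R : Sheaf (Opens.grothendieckTopology T) RingCat.{u}}
    {K M : SheafOfModules.{u} R} (i : K ⟶ M) [Mono i] {V : Opens T} {n m : ℕ}
    {w : Fin n → K.val.obj (op V)} {r : Fin m → Fin n → R.obj.obj (op V)}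
    (h : LRel K V w r) : LRel M V (fun k => ap i V (w k)) r := by
  constructor
  · intro k
    have h1 := congrArg (ap i V) (h.1 k)
    rw [map_sum, map_zero] at h1
    refine Eq.trans ?_ h1
    exact Finset.sum_congr rfl fun j _ => (map_smul (ap i V) _ _).symm
  · intro V' hV' c hc y hy
    refine h.2 V' hV' c ?_ y hy
    apply mono_inj i
    rw [map_sum, map_zero]
    refine Eq.trans ?_ hc
    refine Finset.sum_congr rfl fun j _ => ?_
    rw [map_smul, ap_rs]

/-- Relations in a directed union. -/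
theorem rAt_of_directed {M : Mod R} {S : Set (Subobject M)} (hne : S.Nonempty)
    (hdir : DirectedOn (· ≤ ·) S) (hsup : ∀ P : Subobject M, (∀ A ∈ S, A ≤ P) → P = ⊤) {x : T}
    (h : ∀ A ∈ S, RAt (R := ringSheaf R) (A : Mod R) x) : RAt (R := ringSheaf R) M x := by
  intro W hx p u
  choose V hxV hV A hA s hs using fun k => exists_mem_of_sSup S hne hdir hsup W (u k) x hx
  have : Nonempty S := hne.to_subtype
  obtain ⟨⟨B, hB⟩, hAB⟩ := (directedOn_iff_directed.1 hdir).finite_le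
    (fun k => (⟨A k, hA k⟩ : S))
  obtain ⟨U', hxU', hU'⟩ := K292.Sp.exists_common x V hxV
  obtain ⟨U, hxU, hUW, hU⟩ : ∃ U : Opens T, x ∈ U ∧ U ≤ W ∧ ∀ k, U ≤ V k :=
    ⟨U' ⊓ W, ⟨hxU', hx⟩, inf_le_right, fun k => inf_le_left.trans (hU' k)⟩
  let w : Fin p → Sec (B : Mod R) U := fun k =>
    app (Subobject.ofLE (A k) B (hAB k)) U (res _ (hU k) (s k))
  have hw : ∀ k, app B.arrow U (w k) = res M hUW (u k) := fun k => by
    rw [← app_comp, Subobject.ofLE_arrow, app_res, hs, res_res]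
  obtain ⟨U₁, hU₁, hxU₁, q, ρ, hρ⟩ := h B hB U hxU p w
  refine ⟨U₁, hU₁.trans hUW, hxU₁, q, ρ, ?_⟩
  have h1 := lrel_forward B.arrow hρ
  have h2 : (fun k => ap B.arrow U₁ (rs (B : Mod R) hU₁ (w k))) =
      fun k => rs M (hU₁.trans hUW) (u k) := by
    funext k
    rw [ap_rs]
    refine (congrArg (rs M hU₁) (hw k)).trans ?_
    exact rs_rs M hUW hU₁ (u k)
  rw [h2] at h1
  exact h1

section Gen

variable {G B : Mod R} (b : B ⟶ G) {ι : Type u} (W : ι → Opens T) (n : ι → ℕ)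
  (s : ∀ i, Fin (n i) → Sec G (W i))

/-- The sections of `G` which near every point of each `W i` are combinations of the `s i l` and a
section of `B`. -/
noncomputable def genData : SubData G where
  S V :=
    { carrier := {t | ∀ y ∈ V, ∀ i, y ∈ W i → ∃ (V' : Opens T) (_ : y ∈ V') (h : V' ≤ V)
        (h' : V' ≤ W i) (a : Fin (n i) → O R V') (c : Sec B V'),
        res G h t = ∑ l, a l • res G h' (s i l) + app b V' c}
      zero_mem' := fun y hy i hi =>
        ⟨V ⊓ W i, ⟨hy, hi⟩, inf_le_left, inf_le_right, 0, 0, by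
          simp only [map_zero, Pi.zero_apply, zero_smul, Finset.sum_const_zero, add_zero]⟩
      add_mem' := fun {t₁ t₂} h₁ h₂ y hy i hi => by
        obtain ⟨V₁, hy₁, k₁, l₁, a₁, c₁, e₁⟩ := h₁ y hy i hi
        obtain ⟨V₂, hy₂, k₂, l₂, a₂, c₂, e₂⟩ := h₂ y hy i hi
        refine ⟨V₁ ⊓ V₂, ⟨hy₁, hy₂⟩, inf_le_left.trans k₁, inf_le_left.trans l₁,
          fun l => resO inf_le_left (a₁ l) + resO inf_le_right (a₂ l),
          res B inf_le_left c₁ + res B inf_le_right c₂, ?_⟩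
        have e₁' := congrArg (res G (inf_le_left : V₁ ⊓ V₂ ≤ V₁)) e₁
        have e₂' := congrArg (res G (inf_le_right : V₁ ⊓ V₂ ≤ V₂)) e₂
        simp only [res_res, map_add, map_sum, res_smul] at e₁' e₂'
        simp only [map_add, e₁', e₂', add_smul, Finset.sum_add_distrib, app_res]
        abel
      smul_mem' := fun r t ht y hy i hi => by
        obtain ⟨V₁, hy₁, k₁, l₁, a₁, c₁, e₁⟩ := ht y hy i hi
        refine ⟨V₁, hy₁, k₁, l₁, fun l => resO k₁ r * a₁ l, resO k₁ r • c₁, ?_⟩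
        rw [res_smul, e₁, smul_add, Finset.smul_sum, map_smul]
        simp only [mul_smul] }
  res_mem {V V₀} h {t} ht y hy i hi := by
    obtain ⟨V₁, hy₁, k₁, l₁, a₁, c₁, e₁⟩ := ht y (h hy) i hi
    refine ⟨V₁ ⊓ V₀, ⟨hy₁, hy⟩, inf_le_right, inf_le_left.trans l₁,
      fun l => resO inf_le_left (a₁ l), res B inf_le_left c₁, ?_⟩
    have e₁' := congrArg (res G (inf_le_left : V₁ ⊓ V₀ ≤ V₁)) e₁
    simp only [res_res, map_add, map_sum, res_smul] at e₁'
    rw [res_res, e₁', app_res]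
  loc {V} t ht y hy i hi := by
    obtain ⟨V₀, hy₀, h₀, ht₀⟩ := ht y hy
    obtain ⟨V₁, hy₁, k₁, l₁, a₁, c₁, e₁⟩ := ht₀ y hy₀ i hi
    exact ⟨V₁, hy₁, k₁.trans h₀, l₁, a₁, c₁, by rw [← res_res G h₀ k₁, e₁]⟩

theorem mem_genData {V : Opens T} (t : Sec G V) : t ∈ (genData b W n s).S V ↔
    ∀ y ∈ V, ∀ i, y ∈ W i → ∃ (V' : Opens T) (_ : y ∈ V') (h : V' ≤ V)
        (h' : V' ≤ W i) (a : Fin (n i) → O R V') (c : Sec B V'),
        res G h t = ∑ l, a l • res G h' (s i l) + app b V' c := Iff.rfl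

theorem app_mem_genData {V : Opens T} (t : Sec B V) : app b V t ∈ (genData b W n s).S V := by
  intro y hy i hi
  refine ⟨V ⊓ W i, ⟨hy, hi⟩, inf_le_left, inf_le_right, 0, res B inf_le_left t, ?_⟩
  simp only [Pi.zero_apply, zero_smul, Finset.sum_const_zero, zero_add, app_res]

/-- The comparison property of the generating sections on overlaps. -/
def Overlap : Prop := ∀ (i i' : ι) (j : Fin (n i)) (y : T) (_ : y ∈ W i) (_ : y ∈ W i'),
  ∃ (V' : Opens T) (_ : y ∈ V') (h : V' ≤ W i) (h' : V' ≤ W i') (a : Fin (n i') → O R V')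
    (c : Sec B V'), res G h (s i j) = ∑ l, a l • res G h' (s i' l) + app b V' c

variable {b W n s}

theorem s_mem_genData (ho : Overlap b W n s) (i : ι) (j : Fin (n i)) :
    s i j ∈ (genData b W n s).S (W i) := fun y hy i' hi' => ho i i' j y hy hi'

set_option maxHeartbeats 1000000 in
theorem ftAt_genData (ho : Overlap b W n s) {y : T}
    (hB : FTAt (R := ringSheaf R) B y) {i : ι} (hi : y ∈ W i) :
    FTAt (R := ringSheaf R) (genData b W n s).mod y := by
  obtain ⟨W₁, hy₁, m, β, hβ⟩ := hB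
  let D := genData b W n s
  let U : Opens T := W₁ ⊓ W i
  have h₁ : U ≤ W₁ := inf_le_left
  have h₂ : U ≤ W i := inf_le_right
  let g₁ : Fin (n i) → Sec D.mod U := fun l =>
    (show D.S U from ⟨res G h₂ (s i l), D.res_mem h₂ (s_mem_genData ho i l)⟩)
  let g₂ : Fin m → Sec D.mod U := fun k =>
    (show D.S U from ⟨app b U (res B h₁ (show Sec B W₁ from β k)),
      app_mem_genData b W n s _⟩)
  have e₁ : ∀ l, app D.ι U (g₁ l) = res G h₂ (s i l) := fun l => rfl
  have e₂ : ∀ l, app D.ι U (g₂ l) = app b U (res B h₁ (show Sec B W₁ from β l)) := fun l => rfl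
  refine ⟨U, ⟨hy₁, hi⟩, n i + m, Fin.append g₁ g₂, (lgen_iff _).2 ?_⟩
  intro V hV t z hz
  obtain ⟨V₁, hz₁, k₁, l₁, a, c, e⟩ := (show D.S V from t).2 z hz i (h₂ (hV hz))
  obtain ⟨V₂, k₂, hz₂, d, hd⟩ := (lgen_iff _).1 hβ V₁ (k₁.trans (hV.trans h₁)) c z hz₁
  refine ⟨V₂, k₂.trans k₁, hz₂, Fin.append (fun l => resO k₂ (a l)) d, ?_⟩
  have f₁ : ∀ l, app D.ι V₂ (res D.mod ((k₂.trans k₁).trans hV) (g₁ l)) =
      res G (((k₂.trans k₁).trans hV).trans h₂) (s i l) := fun l => by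
    rw [app_res, e₁, res_res]
  have f₂ : ∀ l, app D.ι V₂ (res D.mod ((k₂.trans k₁).trans hV) (g₂ l)) =
      app b V₂ (res B (((k₂.trans k₁).trans hV).trans h₁) (show Sec B W₁ from β l)) := fun l => by
    rw [app_res, e₂, ← app_res, res_res]
  apply D.app_ι_injective V₂
  rw [Fin.sum_univ_add]
  simp only [Fin.append_left, Fin.append_right, map_add, map_sum, map_smul]
  have e' := congrArg (res G k₂) e
  simp only [map_add, map_sum, res_smul, res_res] at e'
  refine Eq.trans ?_ (e'.trans ?_)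
  · rfl
  · rw [← app_res, hd]
    simp only [map_sum, map_smul]
    congr 1
    · exact Finset.sum_congr rfl fun l _ => congrArg (resO k₂ (a l) • ·) (f₁ l).symm
    · exact Finset.sum_congr rfl fun l _ => congrArg (d l • ·) (f₂ l).symm

end Gen

end K180.ExtLoc
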