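import Groth.Agent.FCompl.K29.RSec
import Groth.Agent.ModSite.K292.Sp

/-!
# Subsheaves of modules from local conditions; sections of suprema of subobjects
-/

set_option autoImplicit false

universe u

open CategoryTheory CategoryTheory.Limits Opposite TopologicalSpace

namespace K180.SubSh

open K29.RSec

variable {T : TopCat.{u}} {R : Sheaf (Opens.grothendieckTopology T) CommRingCat.{u}}

/-- A subsheaf of modules, given by submodules of the sections defined by a local condition. -/
structure SubData (M : Mod R) where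
  /-- the sections -/
  S : ∀ V : Opens T, Submodule (O R V) (Sec M V)
  res_mem : ∀ {V W : Opens T} (h : W ≤ V) {s : Sec M V}, s ∈ S V → res M h s ∈ S W
  loc : ∀ {V : Opens T} (s : Sec M V), (∀ x ∈ V, ∃ (W : Opens T) (_ : x ∈ W) (h : W ≤ V),
    res M h s ∈ S W) → s ∈ S V

namespace SubData

variable {M : Mod R} (D : SubData M)

/-- The gluing data. -/
noncomputable def data : Data R where
  S V := D.S V
  r {V W} h := AddMonoidHom.mk' (fun s => ⟨res M h s.1, D.res_mem h s.2⟩)
    (fun a b => Subtype.ext (map_add (res M h) a.1 b.1))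
  r_self h s := Subtype.ext (res_self M h s.1)
  r_r h h' s := Subtype.ext (res_res M h h' s.1)
  r_smul h a s := Subtype.ext (res_smul M h a s.1)
  ext {ι} U s t h := Subtype.ext (eq_of_locally M U (⨆ i, U i) le_rfl (fun i => le_iSup U i)
    s.1 t.1 fun i => congrArg Subtype.val (h i))
  glue {ι} U s h := by
    obtain ⟨t, ht⟩ := exists_glue M U (⨆ i, U i) le_rfl (fun i => le_iSup U i) (fun i => (s i).1)
      (fun i j W hi hj => by
        have := congrArg Subtype.val (h i j)
        have h2 := congrArg (res M (le_inf hi hj : W ≤ U i ⊓ U j)) this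
        change res M _ (res M _ (s i).1) = res M _ (res M _ (s j).1) at h2
        rw [res_res, res_res] at h2
        exact h2)
    refine ⟨⟨t, D.loc t fun x hx => ?_⟩, fun i => Subtype.ext (ht i)⟩
    obtain ⟨i, hi⟩ := Opens.mem_iSup.1 hx
    refine ⟨U i, hi, le_iSup U i, ?_⟩
    rw [ht i]
    exact (s i).2

/-- The subsheaf. -/
noncomputable def mod : Mod R := D.data.toMod

/-- The inclusion. -/
noncomputable def ι : D.mod ⟶ M :=
  homMk (fun V => (D.S V).subtype.toAddMonoidHom) (fun _ _ _ => rfl) (fun _ _ _ _ => rfl)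

theorem app_ι (V : Opens T) (s : Sec D.mod V) : app D.ι V s = (show D.S V from s).1 := rfl

theorem app_ι_injective (V : Opens T) : Function.Injective (app D.ι V) :=
  fun _ _ h => Subtype.ext h

instance mono_ι : Mono D.ι :=
  (Groth.Agent.Gaga.H976.TM0.mono_iff D.ι).2 fun V => D.app_ι_injective V.unop

/-- Morphisms with values in the subsheaf. -/
noncomputable def lift {N : Mod R} (φ : N ⟶ M) (h : ∀ V (s : Sec N V), app φ V s ∈ D.S V) :
    N ⟶ D.mod :=
  homMk (fun V => AddMonoidHom.mk' (fun s => (⟨app φ V s, h V s⟩ : D.S V))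
    (fun a b => Subtype.ext (map_add (app φ V) a b)))
    (fun V r s => Subtype.ext (map_smul (app φ V) r s))
    (fun _ _ h' s => Subtype.ext (app_res φ h' s))

@[reassoc (attr := simp)]
theorem lift_ι {N : Mod R} (φ : N ⟶ M) (h : ∀ V (s : Sec N V), app φ V s ∈ D.S V) :
    D.lift φ h ≫ D.ι = φ := hom_ext fun _ _ => rfl

end SubData

/-- The sections of `M` locally in a member of a directed family of subobjects. -/
noncomputable def supData {M : Mod R} (S : Set (Subobject M)) (hne : S.Nonempty)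
    (hdir : DirectedOn (· ≤ ·) S) : SubData M where
  S V :=
    { carrier := {t | ∀ x ∈ V, ∃ (W : Opens T) (_ : x ∈ W) (h : W ≤ V), ∃ A ∈ S,
        ∃ s : Sec (A : Mod R) W, app A.arrow W s = res M h t}
      zero_mem' := fun x hx => by
        obtain ⟨A, hA⟩ := hne
        exact ⟨V, hx, le_rfl, A, hA, 0, by rw [map_zero, map_zero]⟩
      add_mem' := fun {a b} ha hb x hx => by
        obtain ⟨W₁, hx₁, h₁, A₁, hA₁, s₁, e₁⟩ := ha x hx
        obtain ⟨W₂, hx₂, h₂, A₂, hA₂, s₂, e₂⟩ := hb x hx
        obtain ⟨A, hA, l₁, l₂⟩ := hdir A₁ hA₁ A₂ hA₂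
        refine ⟨W₁ ⊓ W₂, ⟨hx₁, hx₂⟩, inf_le_left.trans h₁, A, hA,
          app (Subobject.ofLE _ _ l₁) _ (res _ inf_le_left s₁) +
            app (Subobject.ofLE _ _ l₂) _ (res _ inf_le_right s₂), ?_⟩
        rw [map_add, ← app_comp, ← app_comp, Subobject.ofLE_arrow, Subobject.ofLE_arrow, app_res,
          app_res, e₁, e₂, res_res, res_res, map_add]
      smul_mem' := fun r t ht x hx => by
        obtain ⟨W, hx, h, A, hA, s, e⟩ := ht x hx
        exact ⟨W, hx, h, A, hA, resO h r • s, by rw [map_smul, e, res_smul]⟩ }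
  res_mem {V W} h {t} ht x hx := by
    obtain ⟨W', hx', h', A, hA, s, e⟩ := ht x (h hx)
    refine ⟨W' ⊓ W, ⟨hx', hx⟩, inf_le_right, A, hA, res _ inf_le_left s, ?_⟩
    rw [app_res, e, res_res, res_res]
  loc {V} t ht x hx := by
    obtain ⟨W, hx, h, h'⟩ := ht x hx
    obtain ⟨W', hx', h', A, hA, s, e⟩ := h' x hx
    exact ⟨W', hx', h'.trans h, A, hA, s, by rw [e, res_res]⟩

/-- Sections of `M` lie locally in the members of a directed family with supremum `⊤`. -/
theorem exists_mem_of_sSup {M : Mod R} (S : Set (Subobject M)) (hne : S.Nonempty)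
    (hdir : DirectedOn (· ≤ ·) S) (hsup : ∀ P : Subobject M, (∀ A ∈ S, A ≤ P) → P = ⊤)
    (V : Opens T) (t : Sec M V) (x : T)
    (hx : x ∈ V) : ∃ (W : Opens T) (_ : x ∈ W) (h : W ≤ V), ∃ A ∈ S,
        ∃ s : Sec (A : Mod R) W, app A.arrow W s = res M h t := by
  let D := supData S hne hdir
  have h1 : ∀ A ∈ S, A ≤ Subobject.mk D.ι := fun A hA => by
    refine Subobject.le_mk_of_comm (D.lift A.arrow fun V s x hx =>
      ⟨V, hx, le_rfl, A, hA, s, (res_self _ _ _).symm⟩) (D.lift_ι _ _)
  have h2 : Subobject.mk D.ι = ⊤ := hsup _ h1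
  have h3 : IsIso D.ι := (Subobject.isIso_iff_mk_eq_top _).2 h2
  let s : Sec D.mod V := app (inv D.ι) V t
  have h4 : app D.ι V s = t := by
    rw [← app_comp, IsIso.inv_hom_id, app_id]
  have h5 : t ∈ D.S V := by
    rw [← h4]
    exact (show D.S V from s).2
  exact h5 x hx

end K180.SubSh
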