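import Groth.Agent.Gaga.H985.CohMod
import Groth.Agent.ModSite.K292.FT
import Groth.Agent.FSch.K180.SubSh

/-!
# Modules in which relations between finitely many sections are locally finitely generated
-/

set_option autoImplicit false

universe u

open CategoryTheory CategoryTheory.Limits Opposite TopologicalSpace

namespace K180.FRel

open Groth.Agent.Gaga.H976.TM3 Groth.Agent.Gaga.H985.CohMod K292.Sp

section RingCat

variable {T : TopCat.{u}} {R : Sheaf (Opens.grothendieckTopology T) RingCat.{u}}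

/-- Near `x`, relations between finitely many sections of `M` are finitely generated. -/
def RAt (M : SheafOfModules.{u} R) (x : T) : Prop :=
  ∀ (W : Opens T), x ∈ W → ∀ (p : ℕ) (u : Fin p → M.val.obj (op W)),
    ∃ (V : Opens T) (hV : V ≤ W), x ∈ V ∧ ∃ (q : ℕ) (ρ : Fin q → Fin p → R.obj.obj (op V)),
      LRel M V (fun k => rs M hV (u k)) ρ

theorem rAt_of_fpAt {x : T} (hR : CohAt R x) {M : SheafOfModules.{u} R} (h : FPAt M x) :
    RAt M x := by
  intro W hx p u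
  obtain ⟨W₁, hx₁, n, m, s, r, hs, hr⟩ := h
  obtain ⟨V, hV, hxV, q, ρ, hρ⟩ := exists_lrel hR (W := W₁ ⊓ W) ⟨hx₁, hx⟩
    (LGen.restrict inf_le_left hs) (LRel.restrict inf_le_left hr)
    (fun j => rs M inf_le_right (u j))
  exact ⟨V, hV.trans inf_le_right, hxV, q, ρ, by simpa only [rs_rs] using hρ⟩

theorem rAt_of_mono {x : T} {K M : SheafOfModules.{u} R} (i : K ⟶ M) [Mono i] (h : RAt M x) :
    RAt K x := by
  intro W hx p u
  obtain ⟨V, hV, hxV, q, ρ, hρ⟩ := h W hx p fun k => ap i W (u k)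
  refine ⟨V, hV, hxV, q, ρ, lrel_of_mono i ?_⟩
  simp only [← ap_rs] at hρ
  exact hρ

theorem fpAt_of_rAt {x : T} {M : SheafOfModules.{u} R} (h : FTAt M x) (hr : RAt M x) :
    FPAt M x := by
  obtain ⟨W, hx, n, s, hs⟩ := h
  obtain ⟨V, hV, hxV, q, ρ, hρ⟩ := hr W hx n s
  exact ⟨V, hxV, n, q, _, ρ, LGen.restrict hV hs, hρ⟩

theorem ftAt_of_epi {x : T} {M N : SheafOfModules.{u} R} (f : M ⟶ N) [Epi f] (h : FTAt M x) :
    FTAt N x := by
  obtain ⟨W, hx, n, s, hs⟩ := h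
  refine ⟨W, hx, n, fun j => ap f W (s j), fun V hV t y hy => ?_⟩
  obtain ⟨V₁, h₁, hy₁, a, ha⟩ := (epi_iff_loc f).1 inferInstance V t y hy
  obtain ⟨V₂, h₂, hy₂, c, hc⟩ := hs V₁ (h₁.trans hV) a y hy₁
  refine ⟨V₂, h₂.trans h₁, hy₂, c, ?_⟩
  rw [← rs_rs N h₁ h₂, ← ha, ← ap_rs, hc, map_sum]
  exact Finset.sum_congr rfl fun j _ => by rw [map_smul, ap_rs]

theorem isFiniteType_of_epi {M N : SheafOfModules.{u} R} (f : M ⟶ N) [Epi f]
    (h : M.IsFiniteType) : N.IsFiniteType :=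
  (isFiniteType_iff N).2 fun x => ftAt_of_epi f ((isFiniteType_iff M).1 h x)

theorem isFinitePresentation_of_rAt {M : SheafOfModules.{u} R} (h : M.IsFiniteType)
    (hr : ∀ x, RAt M x) : M.IsFinitePresentation :=
  (isFinitePresentation_iff M).2 fun x => fpAt_of_rAt ((isFiniteType_iff M).1 h x) (hr x)

set_option maxHeartbeats 1000000 in
theorem rAt_of_shortExact {x : T} (S : ShortComplex (SheafOfModules.{u} R)) (hS : S.ShortExact)
    (h₁ : RAt S.X₁ x) (h₃ : RAt S.X₃ x) : RAt S.X₂ x := by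
  intro W hx p u
  obtain ⟨V, hV, hxV, q, ρ, hρ⟩ := h₃ W hx p fun k => ap S.g W (u k)
  simp only [← ap_rs] at hρ
  have h0 : ∀ k, ap S.g V (∑ j, ρ k j • rs S.X₂ hV (u j)) = 0 := fun k => by
    rw [map_sum, ← hρ.1 k]
    exact Finset.sum_congr rfl fun j _ => by rw [map_smul]
  have key : ∀ k, ∃ (V' : Opens T) (h : V' ≤ V) (_ : x ∈ V') (w : S.X₁.val.obj (op V')),
      rs S.X₂ h (∑ j, ρ k j • rs S.X₂ hV (u j)) = ap S.f V' w := fun k => by
    obtain ⟨V', h', hx', w, hw⟩ := exact_loc hS.exact _ (h0 k) x hxV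
    exact ⟨V', h', hx', w, hw.symm⟩
  choose V' hV' hxV' w hw using key
  obtain ⟨U', hxU', hU'⟩ := K292.Sp.exists_common x V' hxV'
  obtain ⟨U, hxU, hUV, hU⟩ : ∃ U : Opens T, x ∈ U ∧ U ≤ V ∧ ∀ k, U ≤ V' k :=
    ⟨U' ⊓ V, ⟨hxU', hxV⟩, inf_le_right, fun k => inf_le_left.trans (hU' k)⟩
  let w' : Fin q → S.X₁.val.obj (op U) := fun k => rs S.X₁ (hU k) (w k)
  have hw' : ∀ k, ap S.f U (w' k) = ∑ j, rr hUV (ρ k j) • rs S.X₂ (hUV.trans hV) (u j) := by
    intro k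
    have h2 := congrArg (rs S.X₂ (hU k)) (hw k)
    rw [rs_rs, rs_sum] at h2
    simp only [w', ap_rs, ← h2, rs_smul, rs_rs]
  obtain ⟨U₁, hU₁, hxU₁, r, σ, hσ⟩ := h₁ U hxU q w'
  refine ⟨U₁, hU₁.trans (hUV.trans hV), hxU₁, r,
    fun l j => ∑ k, σ l k * rr (hU₁.trans hUV) (ρ k j), ?_, ?_⟩
  · intro l
    have h2 := congrArg (ap S.f U₁) (hσ.1 l)
    rw [map_sum, map_zero] at h2
    refine Eq.trans ?_ h2
    have h3 : ∀ k, ap S.f U₁ (σ l k • rs S.X₁ hU₁ (w' k)) =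
        ∑ j, (σ l k * rr (hU₁.trans hUV) (ρ k j)) •
          rs S.X₂ (hU₁.trans (hUV.trans hV)) (u j) := by
      intro k
      rw [map_smul, ap_rs, hw', rs_sum, Finset.smul_sum]
      refine Finset.sum_congr rfl fun j _ => ?_
      rw [rs_smul, rr_rr, rs_rs, mul_smul]
    rw [Finset.sum_congr rfl fun k _ => h3 k, Finset.sum_comm]
    exact Finset.sum_congr rfl fun j _ => Finset.sum_smul
  · intro V₁ hV₁ c hc y hy
    have h2 : ∑ j, c j • rs S.X₃ (hV₁.trans (hU₁.trans hUV)) (rs S.X₃ hV (ap S.g W (u j))) = 0 := by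
      have h3 := congrArg (ap S.g V₁) hc
      rw [map_sum, map_zero] at h3
      refine Eq.trans ?_ h3
      refine Finset.sum_congr rfl fun j _ => ?_
      rw [map_smul, rs_rs, rs_rs, ap_rs]
    obtain ⟨V₂, hV₂, hy₂, d, hd⟩ := hρ.2 V₁ _ c (by simpa only [ap_rs] using h2) y hy
    have hle : V₂ ≤ U₁ := hV₂.trans hV₁
    have h4 : ∑ k, d k • rs S.X₁ hle (rs S.X₁ hU₁ (w' k)) = 0 := by
      have := hS.mono_f
      apply mono_inj S.f
      rw [map_zero, map_sum]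
      have h6 : ∀ k, ap S.f V₂ (d k • rs S.X₁ hle (rs S.X₁ hU₁ (w' k))) =
          ∑ j, (d k * rr (hle.trans (hU₁.trans hUV)) (ρ k j)) •
            rs S.X₂ (hle.trans (hU₁.trans (hUV.trans hV))) (u j) := by
        intro k
        rw [map_smul, rs_rs, ap_rs, hw', rs_sum, Finset.smul_sum]
        refine Finset.sum_congr rfl fun j _ => ?_
        rw [rs_smul, rr_rr, rs_rs, mul_smul]
      rw [Finset.sum_congr rfl fun k _ => h6 k, Finset.sum_comm]
      have h7 := congrArg (rs S.X₂ hV₂) hc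
      rw [map_zero, rs_sum] at h7
      refine Eq.trans ?_ h7
      refine Finset.sum_congr rfl fun j _ => ?_
      rw [rs_smul, rs_rs, rs_rs, hd j, Finset.sum_smul]
    obtain ⟨V₃, hV₃, hy₃, e, he⟩ := hσ.2 V₂ hle d h4 y hy₂
    refine ⟨V₃, hV₃.trans hV₂, hy₃, e, fun j => ?_⟩
    have h5 : rr (hV₃.trans hV₂) (c j) = rr hV₃ (rr hV₂ (c j)) := (rr_rr _ _ _).symm
    rw [h5, hd j, map_sum]
    simp only [map_mul, rr_rr, map_sum, he, Finset.mul_sum, Finset.sum_mul]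
    rw [Finset.sum_comm]
    refine Finset.sum_congr rfl fun k _ => Finset.sum_congr rfl fun l _ => ?_
    rw [mul_assoc]

end RingCat

end K180.FRel
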