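import Groth.Agent.AlgSp.K643.ModColim
import Groth.Agent.Ega1.ModToSheaf
import Groth.Agent.ModSite.K296.Ab
import Groth.Agent.Etbase.SiteColim
import Mathlib.Topology.NoetherianSpace
import Mathlib.Topology.Sheaves.Sheaf
import Mathlib.CategoryTheory.Sites.Spaces

/-!
# Modules of finite presentation on Noetherian ringed spaces are finitely presentable objects

* `secSurj`, `secInj`: sections of modules over opens of a Noetherian space commute with filtered colimits;
* `preservesColimitsOfShape_coyoneda`: `Hom(G, -)` commutes with filtered colimits for `G` of finite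
  presentation.
-/

set_option autoImplicit false
universe u

open CategoryTheory CategoryTheory.Limits Opposite TopologicalSpace

set_option backward.isDefEq.respectTransparency false

namespace K180.FpCompact

open K643.ModColim Groth.Agent.Etbase Groth.Agent.Etbase.SiteColim

variable {T : TopCat.{u}} [NoetherianSpace T]

/-- Every open of a Noetherian space is a coherent object. -/
theorem exists_finite_subcover {U : Opens T} {S : Sieve U} (hS : S ∈ Opens.grothendieckTopology T U) :
    ∃ (m : ℕ) (Y : Fin m → Over U), (∀ a, S.arrows (Y a).hom) ∧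
      Sieve.ofArrows (fun a => (Y a).left) (fun a => (Y a).hom) ∈ Opens.grothendieckTopology T U := by
  have key : ∀ x : U, ∃ (W : Opens T) (h : W ⟶ U), S.arrows h ∧ x.1 ∈ W := fun x => by
    obtain ⟨W, h, hW, hx⟩ := hS x.1 x.2
    exact ⟨W, h, hW, hx⟩
  choose W h hW hx using key
  obtain ⟨t, ht⟩ := (NoetherianSpace.isCompact (U : Set T)).elim_finite_subcover (fun x => (W x : Set T))
    (fun x => (W x).isOpen) (fun x hx' => Set.mem_iUnion.2 ⟨⟨x, hx'⟩, hx _⟩)
  let e := (t.equivFin).symm
  refine ⟨t.card, fun a => Over.mk (h (e a).1), fun a => hW _, ?_⟩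
  intro x hxU
  have := ht hxU
  simp only [Set.mem_iUnion] at this
  obtain ⟨y, hy, hxy⟩ := this
  obtain ⟨a, ha⟩ := e.surjective ⟨y, hy⟩
  have hay : (e a).1 = y := congrArg Subtype.val ha
  subst hay
  exact ⟨W (e a).1, h (e a).1, Sieve.ofArrows_mk _ _ a, hxy⟩

theorem cohBasis : CohBasis (Opens.grothendieckTopology T) (Set.univ : Set (Opens T)) := by
  intro U _ S hS
  obtain ⟨m, Y, h1, h2⟩ := exists_finite_subcover hS
  exact ⟨m, Y, h1, h2, fun _ _ => trivial⟩

section Sections

variable {R : Sheaf (Opens.grothendieckTopology T) RingCat.{u}}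
  {I : Type u} [SmallCategory I] [IsFiltered I] {F : I ⥤ SheafOfModules.{u} R} {c : Cocone F}

theorem secSurj (hc : IsColimit c) (E : Opens T) : SecSurj c E := by
  intro s
  have := K296.Ab.preservesColimitsOfShape_toSheaf R I
  let T' := SheafOfModules.toSheaf.{u} R
  let e : colimit (F ⋙ T') ≅ T'.obj c.pt :=
    (colimit.isColimit (F ⋙ T')).coconePointUniqueUpToIso (isColimitOfPreserves T' hc)
  have he : ∀ i, colimit.ι (F ⋙ T') i ≫ e.hom = T'.map (c.ι.app i) := fun i =>
    IsColimit.comp_coconePointUniqueUpToIso_hom _ _ _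
  obtain ⟨i, t, ht⟩ := SiteColim.sec_surj (cohBasis (T := T)) (F ⋙ T') (Set.mem_univ E)
    (e.inv.hom.app (op E) s)
  refine ⟨i, t, ?_⟩
  have h1 := congrArg (fun a => (a.hom.app (op E)).hom t) (he i)
  have h2 := congrArg (fun x => (e.hom.hom.app (op E)).hom x) ht
  have h3 := congrArg (fun a => (a.hom.app (op E)).hom s) e.inv_hom_id
  exact h1.symm.trans (h2.trans h3)

theorem secInj (hc : IsColimit c) (E : Opens T) : SecInj c E := by
  intro i t ht
  have := K296.Ab.preservesColimitsOfShape_toSheaf R I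
  let T' := SheafOfModules.toSheaf.{u} R
  let e : colimit (F ⋙ T') ≅ T'.obj c.pt :=
    (colimit.isColimit (F ⋙ T')).coconePointUniqueUpToIso (isColimitOfPreserves T' hc)
  have he : ∀ i, T'.map (c.ι.app i) ≫ e.inv = colimit.ι (F ⋙ T') i := fun i =>
    (isColimitOfPreserves T' hc).comp_coconePointUniqueUpToIso_hom (colimit.isColimit (F ⋙ T')) i
  have h1 := congrArg (fun a => (a.hom.app (op E)).hom t) (he i)
  have h2 := congrArg (fun x => (e.inv.hom.app (op E)).hom x) ht
  obtain ⟨j, g, hg⟩ := SiteColim.sec_inj (cohBasis (T := T)) (F ⋙ T') (Set.mem_univ E) i t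
    (h1.symm.trans (h2.trans (map_zero (e.inv.hom.app (op E)).hom)))
  exact ⟨j, g, hg⟩

end Sections

/-- Refine a family covering the top by a finite subfamily. -/
theorem exists_finite_cover {κ : Type*} {Z : κ → Opens T}
    (hZ : (Opens.grothendieckTopology T).CoversTop Z) :
    ∃ (m : ℕ) (i : Fin m → κ), (Opens.grothendieckTopology T).CoversTop (fun a => Z (i a)) := by
  have h0 := hZ (⊤ : Opens T)
  have key : ∀ x : T, ∃ k : κ, x ∈ Z k := by
    intro x
    obtain ⟨V, g, ⟨k, ⟨l⟩⟩, hv⟩ := h0 x trivial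
    exact ⟨k, leOfHom l hv⟩
  choose k hk using key
  obtain ⟨t, ht⟩ := (NoetherianSpace.isCompact (Set.univ : Set T)).elim_finite_subcover
    (fun x => (Z (k x) : Set T)) (fun x => (Z (k x)).isOpen) (fun x _ => Set.mem_iUnion.2 ⟨x, hk x⟩)
  let e := (t.equivFin).symm
  refine ⟨t.card, fun a => k (e a).1, fun U x hxU => ?_⟩
  have := ht (Set.mem_univ x)
  simp only [Set.mem_iUnion] at this
  obtain ⟨y, hy, hxy⟩ := this
  obtain ⟨a, ha⟩ := e.surjective ⟨y, hy⟩
  have hay : (e a).1 = y := congrArg Subtype.val ha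
  subst hay
  exact ⟨U ⊓ Z (k (e a).1), homOfLE inf_le_left, ⟨a, ⟨homOfLE inf_le_right⟩⟩, ⟨hxU, hxy⟩⟩

/-- `Hom(G, -)` commutes with filtered colimits for `G` of finite presentation on a Noetherian space. -/
theorem preservesColimitsOfShape_coyoneda {R : Sheaf (Opens.grothendieckTopology T) RingCat.{u}}
    (G : SheafOfModules.{u} R) [G.IsFinitePresentation] (I : Type u) [SmallCategory I] [IsFiltered I] :
    PreservesColimitsOfShape I (coyoneda.obj (op G)) := by
  obtain ⟨σ, hσ⟩ := SheafOfModules.IsFinitePresentation.exists_quasicoherentData G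
  obtain ⟨m, i, hY⟩ := exists_finite_cover σ.coversTop
  refine ⟨fun {F} => ⟨fun {c} hc => ?_⟩⟩
  exact isColimit_coyoneda c hY (fun a => σ.presentation (i a))
    (fun a => (hσ.isFinite_presentation (i a)).isFiniteType_generators.finite)
    (fun a => (hσ.isFinite_presentation (i a)).isFiniteType_relations.finite)
    (fun k => secSurj hc _) (fun k => secInj hc _) (fun k l => secInj hc _)

end K180.FpCompact
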