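import Groth.Agent.FSch.K180.IndCls
import Groth.Agent.Cohder.SerreVerdier

/-!
# Right adjoints of functors out of `D(ind-coherent)`
-/

set_option autoImplicit false

universe w w' v u v' u'

open CategoryTheory CategoryTheory.Limits

namespace K180.IndUnion.CohCls

variable {C : Type u} [Category.{v} C] [Abelian C] [IsGrothendieckAbelian.{v} C]
  {Q : ObjectProperty C} (hQ : CohCls Q) [ObjectProperty.EssentiallySmall.{v} Q]
  [(ObjectProperty.ind.{v} Q).ContainsZero] [(ObjectProperty.ind.{v} Q).IsClosedUnderKernels]
  [(ObjectProperty.ind.{v} Q).IsClosedUnderCokernels]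
  [(ObjectProperty.ind.{v} Q).IsClosedUnderFiniteProducts]
  [PreservesFiniteLimits (ObjectProperty.ind.{v} Q).ι]
  [PreservesFiniteColimits (ObjectProperty.ind.{v} Q).ι]
  [HasDerivedCategory.{w} (ObjectProperty.ind.{v} Q).FullSubcategory] [HasDerivedCategory.{w'} C]
  {T : Type u'} [Category.{v'} T] [Preadditive T] [HasZeroObject T] [HasShift T ℤ]
  [∀ n : ℤ, (shiftFunctor T n).Additive] [Pretriangulated T] [LocallySmall.{v} T]

include hQ

/-- A triangulated functor `R : D(C) ⥤ T` which preserves coproducts of objects with ind-coherent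
cohomology has, restricted along `D(A) ⥤ D(C)`, a right adjoint. -/
theorem comp_isLeftAdjoint (R : DerivedCategory C ⥤ T) [R.CommShift ℤ] [R.IsTriangulated]
    (hR : ∀ (J : Type v) (E : J → DerivedCategory C),
      (∀ j i, ObjectProperty.ind.{v} Q ((DerivedCategory.homologyFunctor C i).obj (E j))) →
      PreservesColimit (Discrete.functor E) R) :
    ((ObjectProperty.ind.{v} Q).ι.mapDerivedCategory ⋙ R).IsLeftAdjoint := by
  have := hQ.isGrothendieckAbelian
  have := fun J => hQ.preservesCoproducts J
  have key : ∀ (J : Type v), PreservesColimitsOfShape (Discrete J)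
      ((ObjectProperty.ind.{v} Q).ι.mapDerivedCategory ⋙ R) := by
    intro J
    constructor
    intro K
    let L := (ObjectProperty.ind.{v} Q).ι.mapDerivedCategory
    let E : J → DerivedCategory C := fun j => L.obj (K.obj ⟨j⟩)
    have h1 : PreservesColimit (Discrete.functor E) R := by
      refine hR J E fun j i => ?_
      obtain ⟨e⟩ := Groth.Agent.Cohder.SerreVerdier.nonempty_homology_iso
        (ObjectProperty.ind.{v} Q).ι i (K.obj ⟨j⟩)
      exact ObjectProperty.prop_of_iso _ e.symm
        ((DerivedCategory.homologyFunctor _ i).obj (K.obj ⟨j⟩)).2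
    have h2 : PreservesColimit (K ⋙ L) R :=
      preservesColimit_of_iso_diagram (K₁ := Discrete.functor E) R
        (Discrete.natIso fun j => Iso.refl _)
    exact comp_preservesColimit L R
  exact DerAdj.isLeftAdjoint _

end K180.IndUnion.CohCls
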