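import Mathlib.CategoryTheory.ObjectProperty.Ind
import Mathlib.CategoryTheory.Presentable.Finite
import Mathlib.CategoryTheory.EssentialImage
import Mathlib.CategoryTheory.ObjectProperty.ColimitsOfShape
import Mathlib.CategoryTheory.Filtered.Final

/-!
# Functors preserving filtered colimits, fully faithful on a class of compact objects

`L : C ⥤ D` preserves filtered colimits, `Q` is a class of objects `A` of `C` such that `A` and `L A` are
finitely presentable, and `L` is fully faithful on `Q`.

* `bijective_map`: `L` is fully faithful on `ind Q`;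
* `exists_ind_of_ind`: if `C` has filtered colimits, every filtered colimit of objects isomorphic to objects
  `L A` with `Q A` is isomorphic to `L X` with `X` in `ind Q`.
-/

set_option autoImplicit false

universe w v₁ v₂ u₁ u₂

open CategoryTheory CategoryTheory.Limits Opposite

namespace K180.IndFunctor

variable {C : Type u₁} [Category.{v₁} C] {D : Type u₂} [Category.{v₂} D] (L : C ⥤ D)

/-- Full faithfulness passes from the terms of a filtered colimit to the colimit, for maps out of compact
objects. -/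
theorem bijective_map_of_compact {A : C} [IsFinitelyPresentable.{w} A] [IsFinitelyPresentable.{w} (L.obj A)]
    {J : Type w} [SmallCategory J] [IsFiltered J] {F : J ⥤ C} {c : Cocone F} (hc : IsColimit c)
    (hc' : IsColimit (L.mapCocone c))
    (h : ∀ j, Function.Bijective (fun φ : A ⟶ F.obj j => L.map φ)) :
    Function.Bijective (fun φ : A ⟶ c.pt => L.map φ) := by
  constructor
  · intro φ φ' e
    obtain ⟨i, φi, rfl⟩ := IsFinitelyPresentable.exists_hom_of_isColimit hc φ
    obtain ⟨j, φj, rfl⟩ := IsFinitelyPresentable.exists_hom_of_isColimit hc φ'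
    have e1 : L.map φi ≫ (L.mapCocone c).ι.app i = L.map φj ≫ (L.mapCocone c).ι.app j := by
      change L.map φi ≫ L.map (c.ι.app i) = L.map φj ≫ L.map (c.ι.app j)
      rw [← L.map_comp, ← L.map_comp]
      exact e
    obtain ⟨k, u, v, h1⟩ := IsFinitelyPresentable.exists_eq_of_isColimit hc' (L.map φi) (L.map φj) e1
    have h2 : φi ≫ F.map u = φj ≫ F.map v := by
      apply (h k).1
      change L.map _ = L.map _
      rw [L.map_comp, L.map_comp]
      exact h1
    rw [← c.w u, ← c.w v, ← Category.assoc, ← Category.assoc, h2]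
  · intro ψ
    obtain ⟨j, ψj, hψ⟩ := IsFinitelyPresentable.exists_hom_of_isColimit hc' ψ
    obtain ⟨φj, hφ⟩ := (h j).2 ψj
    refine ⟨φj ≫ c.ι.app j, ?_⟩
    change L.map _ = ψ
    rw [L.map_comp, ← hψ]
    exact congrArg (fun x => x ≫ L.map (c.ι.app j)) hφ

/-- Full faithfulness passes to colimits in the first variable. -/
theorem bijective_map_of_isColimit {Y : C} {J : Type w} [SmallCategory J] {F : J ⥤ C} {c : Cocone F}
    (hc : IsColimit c) (hc' : IsColimit (L.mapCocone c))
    (h : ∀ j, Function.Bijective (fun φ : F.obj j ⟶ Y => L.map φ)) :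
    Function.Bijective (fun φ : c.pt ⟶ Y => L.map φ) := by
  constructor
  · intro φ φ' e
    refine hc.hom_ext fun j => (h j).1 ?_
    change L.map _ = L.map _
    rw [L.map_comp, L.map_comp]
    exact congrArg (fun x => L.map (c.ι.app j) ≫ x) e
  · intro ψ
    choose φ hφ using fun j => (h j).2 (L.map (c.ι.app j) ≫ ψ)
    let s : Cocone F := Cocone.mk Y
      { app := φ
        naturality := fun i j f => by
          apply (h i).1
          change L.map (F.map f ≫ φ j) = L.map (φ i ≫ 𝟙 Y)
          rw [Category.comp_id, L.map_comp]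
          refine (congrArg (fun x => L.map (F.map f) ≫ x) (hφ j)).trans ?_
          change L.map (F.map f) ≫ L.map (c.ι.app j) ≫ ψ = _
          rw [← Category.assoc, ← L.map_comp, c.w f]
          exact (hφ i).symm }
    refine ⟨hc.desc s, hc'.hom_ext fun j => ?_⟩
    change L.map (c.ι.app j) ≫ L.map (hc.desc s) = L.map (c.ι.app j) ≫ ψ
    rw [← L.map_comp, hc.fac]
    exact hφ j

variable (Q : ObjectProperty C)

/-- `L` is fully faithful on `ind Q`. -/
theorem bijective_map [PreservesFilteredColimitsOfSize.{w, w} L]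
    (hQ : ∀ A, Q A → IsFinitelyPresentable.{w} A) (hQ' : ∀ A, Q A → IsFinitelyPresentable.{w} (L.obj A))
    (hL : ∀ A B, Q A → Q B → Function.Bijective (fun φ : A ⟶ B => L.map φ))
    {X Y : C} (hX : ObjectProperty.ind.{w} Q X) (hY : ObjectProperty.ind.{w} Q Y) :
    Function.Bijective (fun φ : X ⟶ Y => L.map φ) := by
  obtain ⟨J, _, _, pX, hX⟩ := hX
  obtain ⟨K, _, _, pY, hY⟩ := hY
  refine bijective_map_of_isColimit L pX.isColimit (isColimitOfPreserves L pX.isColimit) fun j => ?_
  have := hQ _ (hX j)
  have := hQ' _ (hX j)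
  exact bijective_map_of_compact L pY.isColimit (isColimitOfPreserves L pY.isColimit) fun k =>
    hL _ _ (hX j) (hY k)

/-- Objects of `ind` of the essential image of `Q` are images of objects of `ind Q`. -/
theorem exists_ind_of_ind [HasFilteredColimitsOfSize.{w, w} C] [PreservesFilteredColimitsOfSize.{w, w} L]
    (hL : ∀ A B, Q A → Q B → Function.Bijective (fun φ : A ⟶ B => L.map φ)) (Q' : ObjectProperty D)
    (hQ' : ∀ B, Q' B → ∃ A, Q A ∧ Nonempty (L.obj A ≅ B)) {Y : D} (hY : ObjectProperty.ind.{w} Q' Y) :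
    ∃ X, ObjectProperty.ind.{w} Q X ∧ Nonempty (L.obj X ≅ Y) := by
  obtain ⟨J, _, _, pY, hY⟩ := hY
  let LQ : Q.FullSubcategory ⥤ D := Q.ι ⋙ L
  have hfull : LQ.Full := ⟨fun {A B} f => by
    obtain ⟨φ, hφ⟩ := (hL _ _ A.2 B.2).2 f
    exact ⟨⟨φ⟩, hφ⟩⟩
  have hfaith : LQ.Faithful := ⟨fun {A B} f g h => by
    apply ObjectProperty.hom_ext
    exact (hL _ _ A.2 B.2).1 h⟩
  have hess : ∀ j, LQ.essImage (pY.diag.obj j) := fun j => by
    obtain ⟨A, hA, ⟨e⟩⟩ := hQ' _ (hY j)
    exact ⟨⟨A, hA⟩, ⟨e⟩⟩
  let K : J ⥤ Q.FullSubcategory := Functor.essImage.liftFunctor pY.diag LQ hess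
  let e : K ⋙ LQ ≅ pY.diag := Functor.essImage.liftFunctorCompIso pY.diag LQ hess
  have : HasColimitsOfShape J C := HasFilteredColimitsOfSize.HasColimitsOfShape J
  have : PreservesColimitsOfShape J L := PreservesFilteredColimitsOfSize.preserves_filtered_colimits J
  let c := colimit.cocone (K ⋙ Q.ι)
  have hc : IsColimit c := colimit.isColimit _
  have hc' : IsColimit (L.mapCocone c) := isColimitOfPreserves L hc
  refine ⟨c.pt, ⟨J, inferInstance, inferInstance, ⟨K ⋙ Q.ι, c.ι, hc⟩, fun j => (K.obj j).2⟩, ⟨?_⟩⟩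
  exact IsColimit.coconePointsIsoOfNatIso hc' pY.isColimit e

end K180.IndFunctor
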