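import Mathlib.CategoryTheory.Abelian.GrothendieckCategory.Subobject
import Mathlib.CategoryTheory.Abelian.GrothendieckCategory.Basic
import Mathlib.CategoryTheory.ObjectProperty.Ind
import Mathlib.CategoryTheory.Abelian.Subcategory

/-!
# Directed unions of subobjects and `ObjectProperty.ind` in Grothendieck abelian categories
-/

set_option autoImplicit false
universe v u

open CategoryTheory CategoryTheory.Limits

namespace K180.IndUnion

variable {C : Type u} [Category.{v} C] [Abelian C] [IsGrothendieckAbelian.{v} C]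

/-- An object which is the supremum of a directed set of subobjects satisfying `Q` is a filtered
colimit of objects satisfying `Q`. -/
theorem ind_of_directedOn {X : C} (Q : ObjectProperty C)
    (S : Set (Subobject X)) (hne : S.Nonempty) (hdir : DirectedOn (· ≤ ·) S)
    (hQ : ∀ A ∈ S, Q (A : C)) (hsup : sSup S = ⊤) : ObjectProperty.ind.{v} Q X := by
  obtain ⟨J, ⟨e⟩⟩ : ∃ J : Type v, Nonempty (J ≃ S) := ⟨Shrink.{v} S, ⟨(equivShrink S).symm⟩⟩
  let _ : Preorder J := Preorder.lift (fun j => (e j : Subobject X))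
  obtain ⟨A₀, hA₀⟩ := hne
  have : Nonempty J := ⟨e.symm ⟨A₀, hA₀⟩⟩
  have : IsDirected J (· ≤ ·) := ⟨fun a b => by
    obtain ⟨B, hB, h1, h2⟩ := hdir _ (e a).2 _ (e b).2
    refine ⟨e.symm ⟨B, hB⟩, ?_, ?_⟩
    · change ((e a : Subobject X)) ≤ ((e (e.symm ⟨B, hB⟩) : S) : Subobject X)
      rw [Equiv.apply_symm_apply]
      exact h1
    · change ((e b : Subobject X)) ≤ ((e (e.symm ⟨B, hB⟩) : S) : Subobject X)
      rw [Equiv.apply_symm_apply]
      exact h2⟩
  have : IsFiltered J := inferInstance
  let F : J ⥤ MonoOver X :=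
    (Monotone.functor (f := fun j : J => (e j : Subobject X)) (fun _ _ h => h)) ⋙
      Subobject.representative
  let c : Cocone (F ⋙ MonoOver.forget X) :=
    { pt := Over.mk (𝟙 X)
      ι := { app := fun j => Over.homMk (F.obj j).obj.hom (by
               change (F.obj j).obj.hom ≫ 𝟙 X = (F.obj j).obj.hom
               rw [Category.comp_id])
             naturality := fun j k f => by
               ext
               change (F.map f).hom.left ≫ (F.obj k).obj.hom = (F.obj j).obj.hom ≫ 𝟙 X
               rw [Category.comp_id]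
               exact Over.w (F.map f).hom } }
  have hm : Mono c.pt.hom := inferInstanceAs (Mono (𝟙 X))
  have hsup' : Subobject.mk c.pt.hom = ⨆ j, Subobject.mk (F.obj j).obj.hom := by
    have h1 : Subobject.mk c.pt.hom = ⊤ := (Subobject.isIso_iff_mk_eq_top _).1
      (inferInstanceAs (IsIso (𝟙 X)))
    rw [h1, eq_comm, eq_top_iff, ← hsup]
    apply sSup_le
    intro A hA
    have h2 : Subobject.mk (F.obj (e.symm ⟨A, hA⟩)).obj.hom = A := by
      change Subobject.mk (Subobject.arrow ((e (e.symm ⟨A, hA⟩) : S) : Subobject X)) = A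
      rw [Subobject.mk_arrow, Equiv.apply_symm_apply]
    exact h2.ge.trans (le_iSup (fun j => Subobject.mk (F.obj j).obj.hom) (e.symm ⟨A, hA⟩))
  have hc := IsGrothendieckAbelian.isColimitMapCoconeOfSubobjectMkEqISup F c hsup'
  refine ⟨J, inferInstance, inferInstance, ⟨_, _, hc⟩, fun j => ?_⟩
  exact hQ _ (e j).2

omit [Abelian C] [IsGrothendieckAbelian.{v} C] in
/-- If `X` is the colimit of a diagram, then a subobject through which all the maps of the cocone
factor is everything. -/
theorem eq_top_of_factors {J : Type*} [Category J] {X : C} {D : J ⥤ C} {c : Cocone D}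
    (hc : IsColimit c) (e : c.pt ≅ X) (A : Subobject X)
    (h : ∀ j, A.Factors (c.ι.app j ≫ e.hom)) : A = ⊤ := by
  let c' : Cocone D :=
    { pt := (A : C)
      ι := { app := fun j => A.factorThru _ (h j)
             naturality := fun j k f => by
              rw [← cancel_mono A.arrow]
              simp } }
  let s : X ⟶ (A : C) := e.inv ≫ hc.desc c'
  have hs : s ≫ A.arrow = 𝟙 X := by
    rw [← cancel_epi e.hom]
    apply hc.hom_ext
    intro j
    simp [s, c']
  have : IsSplitEpi A.arrow := ⟨⟨⟨s, hs⟩⟩⟩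
  have : IsIso A.arrow := isIso_of_mono_of_isSplitEpi _
  exact (Subobject.isIso_arrow_iff_eq_top A).1 this


omit [Abelian C] [IsGrothendieckAbelian.{v} C] in
/-- A map out of a colimit factors through a subobject if its restrictions to the terms of the
diagram do. -/
theorem factors_of_isColimit {J : Type*} [Category J] {Y : C} {D : J ⥤ C} {c : Cocone D}
    (hc : IsColimit c) (f : c.pt ⟶ Y) (P : Subobject Y)
    (h : ∀ j, P.Factors (c.ι.app j ≫ f)) : P.Factors f := by
  let c' : Cocone D :=
    { pt := (P : C)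
      ι := { app := fun j => P.factorThru _ (h j)
             naturality := fun j k f => by
              rw [← cancel_mono P.arrow]
              simp } }
  have hs : hc.desc c' ≫ P.arrow = f := by
    apply hc.hom_ext
    intro j
    simp [c']
  rw [← hs]
  exact Subobject.factors_comp_arrow _

omit [Abelian C] [IsGrothendieckAbelian.{v} C] in
theorem eq_top_of_factors_id {Y : C} (P : Subobject Y) (h : P.Factors (𝟙 Y)) : P = ⊤ := by
  have : IsSplitEpi P.arrow := ⟨⟨⟨P.factorThru _ h, P.factorThru_arrow _ h⟩⟩⟩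
  have : IsIso P.arrow := isIso_of_mono_of_isSplitEpi _
  exact (Subobject.isIso_arrow_iff_eq_top P).1 this

omit [Abelian C] [IsGrothendieckAbelian.{v} C] in
theorem factors_of_ind {Q : ObjectProperty C} {X Y : C} (hX : ObjectProperty.ind.{v} Q X)
    (f : X ⟶ Y) (P : Subobject Y) (h : ∀ {A : C} (g : A ⟶ X), Q A → P.Factors (g ≫ f)) :
    P.Factors f := by
  obtain ⟨J, _, _, pres, hJ⟩ := hX
  exact factors_of_isColimit pres.isColimit f P fun j => h _ (hJ j)

/-- Closure properties of a class `Q` of objects ("coherent modules") which make `Q.ind` ("filtered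
colimits of coherent modules") closed under kernels and all colimits. -/
structure CohCls (Q : ObjectProperty C) : Prop where
  iso : Q.IsClosedUnderIsomorphisms
  zero : ∀ {X : C}, IsZero X → Q X
  biprod : ∀ {A B : C}, Q A → Q B → Q (A ⊞ B)
  kernel : ∀ {A B : C} (f : A ⟶ B), Q A → Q B → Q (kernel f)
  cokernel : ∀ {A B : C} (f : A ⟶ B), Q A → Q B → Q (cokernel f)
  img : ∀ {A B X : C} (p : A ⟶ B) (i : B ⟶ X) [Epi p] [Mono i], Q A →
    ObjectProperty.ind.{v} Q X → Q B
  sub : ∀ {B A : C} (i : B ⟶ A) [Mono i], Q A → ObjectProperty.ind.{v} Q B → Q B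

namespace CohCls

variable {Q : ObjectProperty C} (hQ : CohCls Q)

include hQ

/-- Two subobjects in `Q` of an object all of whose images of objects of `Q` are in `Q` lie in a
common subobject in `Q`. -/
theorem exists_ge {X : C} (hX : ∀ {A B : C} (p : A ⟶ B) (i : B ⟶ X) [Epi p] [Mono i], Q A → Q B)
    (A B : Subobject X) (hA : Q (A : C)) (hB : Q (B : C)) :
    ∃ D : Subobject X, Q (D : C) ∧ A ≤ D ∧ B ≤ D := by
  have := hQ.iso
  let f : ((A : C) ⊞ (B : C)) ⟶ X := biprod.desc A.arrow B.arrow
  have h1 : Q (image f) := hX (factorThruImage f) (image.ι f) (hQ.biprod hA hB)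
  refine ⟨Subobject.mk (image.ι f), Q.prop_of_iso (Subobject.underlyingIso _).symm h1, ?_, ?_⟩
  · refine Subobject.le_mk_of_comm (biprod.inl ≫ factorThruImage f) ?_
    rw [Category.assoc, image.fac, biprod.inl_desc]
  · refine Subobject.le_mk_of_comm (biprod.inr ≫ factorThruImage f) ?_
    rw [Category.assoc, image.fac, biprod.inr_desc]

omit hQ in
/-- An epimorphic jointly covering family of maps. -/
theorem sSup_eq_top_of_ind {X : C} (S : Set (Subobject X))
    (hX : ObjectProperty.ind.{v} Q X)
    (h : ∀ {A : C} (f : A ⟶ X), Q A → ∃ D ∈ S, D.Factors f) : sSup S = ⊤ := by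
  obtain ⟨J, _, _, pres, hJ⟩ := hX
  refine eq_top_of_factors pres.isColimit (Iso.refl _) _ fun j => ?_
  obtain ⟨D, hD, h1⟩ := h ((pres.ι.app j) ≫ 𝟙 X) (hJ j)
  exact Subobject.factors_of_le _ (le_sSup hD) h1

/-- `X` is a filtered colimit of objects of `Q` iff it is the union of its subobjects in `Q` and
images in `X` of objects of `Q` are in `Q`. -/
theorem ind_iff {X : C} : ObjectProperty.ind.{v} Q X ↔
    (∀ {A B : C} (p : A ⟶ B) (i : B ⟶ X) [Epi p] [Mono i], Q A → Q B) ∧
      sSup {A : Subobject X | Q (A : C)} = ⊤ := by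
  have := hQ.iso
  constructor
  · intro hX
    refine ⟨fun p i _ _ hA => hQ.img p i hA hX, ?_⟩
    refine sSup_eq_top_of_ind _ hX fun {A} f hA => ?_
    refine ⟨Subobject.mk (image.ι f), ?_, ?_⟩
    · exact Q.prop_of_iso (Subobject.underlyingIso _).symm
        (hQ.img (factorThruImage f) (image.ι f) hA hX)
    · have h3 : (Subobject.mk (image.ι f)).Factors (factorThruImage f ≫ image.ι f) :=
        Subobject.factors_of_factors_right _ (Subobject.mk_factors_self _)
      rwa [image.fac] at h3
  · rintro ⟨h1, h2⟩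
    refine ind_of_directedOn Q {A : Subobject X | Q (A : C)} ?_ ?_ (fun A hA => hA) h2
    · refine ⟨⊥, hQ.zero ?_⟩
      exact IsZero.of_iso (isZero_zero C) (Subobject.botCoeIsoZero)
    · intro A hA B hB
      obtain ⟨D, hD, hAD, hBD⟩ := exists_ge hQ h1 A B hA hB
      exact ⟨D, hD, hAD, hBD⟩

/-- Biproducts of filtered colimits of objects in `Q`. -/
theorem ind_biprod {X Y : C} (hX : ObjectProperty.ind.{v} Q X) (hY : ObjectProperty.ind.{v} Q Y) :
    ObjectProperty.ind.{v} Q (X ⊞ Y) := by
  have := hQ.iso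
  obtain ⟨iX, sX⟩ := hQ.ind_iff.1 hX
  obtain ⟨iY, sY⟩ := hQ.ind_iff.1 hY
  let g (A : Subobject X) (B : Subobject Y) : (A : C) ⊞ (B : C) ⟶ X ⊞ Y :=
    biprod.map A.arrow B.arrow
  have hg (A B) : Mono (g A B) := inferInstance
  let S : Set (Subobject (X ⊞ Y)) :=
    {D | ∃ (A : Subobject X) (B : Subobject Y), Q (A : C) ∧ Q (B : C) ∧
      D = Subobject.mk (g A B)}
  have hmono {A A' : Subobject X} {B B' : Subobject Y} (h1 : A ≤ A') (h2 : B ≤ B') :
      Subobject.mk (g A B) ≤ Subobject.mk (g A' B') := by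
    refine Subobject.mk_le_mk_of_comm
      (biprod.map (Subobject.ofLE _ _ h1) (Subobject.ofLE _ _ h2)) ?_
    simp only [g]
    ext <;> simp
  refine ind_of_directedOn Q S ?_ ?_ ?_ ?_
  · exact ⟨_, ⊥, ⊥, hQ.zero (IsZero.of_iso (isZero_zero C) (Subobject.botCoeIsoZero)),
      hQ.zero (IsZero.of_iso (isZero_zero C) (Subobject.botCoeIsoZero)), rfl⟩
  · rintro _ ⟨A, B, hA, hB, rfl⟩ _ ⟨A', B', hA', hB', rfl⟩
    obtain ⟨D, hD, h1, h2⟩ := exists_ge hQ iX A A' hA hA'
    obtain ⟨E, hE, h3, h4⟩ := exists_ge hQ iY B B' hB hB'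
    exact ⟨_, ⟨D, E, hD, hE, rfl⟩, hmono h1 h3, hmono h2 h4⟩
  · rintro _ ⟨A, B, hA, hB, rfl⟩
    exact Q.prop_of_iso (Subobject.underlyingIso _).symm (hQ.biprod hA hB)
  · have hbot : Q ((⊥ : Subobject X) : C) :=
      hQ.zero (IsZero.of_iso (isZero_zero C) (Subobject.botCoeIsoZero))
    have hbot' : Q ((⊥ : Subobject Y) : C) :=
      hQ.zero (IsZero.of_iso (isZero_zero C) (Subobject.botCoeIsoZero))
    have h1 : (sSup S).Factors (biprod.inl : X ⟶ X ⊞ Y) := by
      refine factors_of_ind hX _ _ fun {A} f hA => ?_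
      have h2 : Q (image f) := iX (factorThruImage f) (image.ι f) hA
      let A' : Subobject X := Subobject.mk (image.ι f)
      have h3 : Q (A' : C) := Q.prop_of_iso (Subobject.underlyingIso _).symm h2
      have h4 : A'.Factors f := by
        have h5 : A'.Factors (factorThruImage f ≫ image.ι f) :=
          Subobject.factors_of_factors_right _ (Subobject.mk_factors_self _)
        rwa [image.fac] at h5
      refine Subobject.factors_of_le _ (le_sSup ⟨A', ⊥, h3, hbot', rfl⟩) ?_
      rw [Subobject.mk_factors_iff]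
      exact ⟨A'.factorThru f h4 ≫ biprod.inl, by
        simp only [g]
        change (A'.factorThru f h4 ≫ biprod.inl) ≫ biprod.map A'.arrow (⊥ : Subobject Y).arrow = _
        rw [Category.assoc, biprod.inl_map, Subobject.factorThru_arrow_assoc]⟩
    have h1' : (sSup S).Factors (biprod.inr : Y ⟶ X ⊞ Y) := by
      refine factors_of_ind hY _ _ fun {A} f hA => ?_
      have h2 : Q (image f) := iY (factorThruImage f) (image.ι f) hA
      let A' : Subobject Y := Subobject.mk (image.ι f)
      have h3 : Q (A' : C) := Q.prop_of_iso (Subobject.underlyingIso _).symm h2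
      have h4 : A'.Factors f := by
        have h5 : A'.Factors (factorThruImage f ≫ image.ι f) :=
          Subobject.factors_of_factors_right _ (Subobject.mk_factors_self _)
        rwa [image.fac] at h5
      refine Subobject.factors_of_le _ (le_sSup ⟨⊥, A', hbot, h3, rfl⟩) ?_
      rw [Subobject.mk_factors_iff]
      exact ⟨A'.factorThru f h4 ≫ biprod.inr, by
        simp only [g]
        change (A'.factorThru f h4 ≫ biprod.inr) ≫ biprod.map (⊥ : Subobject X).arrow A'.arrow = _
        rw [Category.assoc, biprod.inr_map, Subobject.factorThru_arrow_assoc]⟩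
    apply eq_top_of_factors_id
    rw [← biprod.total]
    exact Subobject.factors_add _ _ (Subobject.factors_of_factors_right _ h1)
      (Subobject.factors_of_factors_right _ h1')

omit hQ in
/-- The kernel of a map out of a filtered colimit is covered by the kernels of the restrictions. -/
theorem kernel_eq_top {J : Type v} [SmallCategory J] [IsFiltered J] {D : J ⥤ C} {c : Cocone D}
    (hc : IsColimit c) {G : C} (θ : c.pt ⟶ G) (P : Subobject (Limits.kernel θ))
    (h : ∀ (j : J), P.Factors (kernel.lift θ (kernel.ι (c.ι.app j ≫ θ) ≫ c.ι.app j) (by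
      rw [Category.assoc, kernel.condition]))) : P = ⊤ := by
  let α : D ⟶ (Functor.const J).obj G := { app := fun j => c.ι.app j ≫ θ }
  let S : ShortComplex (J ⥤ C) := ShortComplex.mk (kernel.ι α) α (kernel.condition α)
  have hS : S.Exact := ShortComplex.exact_of_f_is_kernel _ (kernelIsKernel α)
  let cG : Cocone ((Functor.const J).obj G) := { pt := G, ι := 𝟙 _ }
  have : IsConnected J := IsFiltered.isConnected J
  have hcG : IsColimit cG := isColimitConstCocone J G
  let c₁ : Cocone (Limits.kernel α) := colimit.cocone _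
  have hc₁ : IsColimit c₁ := colimit.isColimit _
  let f : c₁.pt ⟶ c.pt := hc₁.desc
    { pt := c.pt
      ι := { app := fun j => (kernel.ι α).app j ≫ c.ι.app j
             naturality := fun i j g => by simp } }
  have hf : ∀ j, c₁.ι.app j ≫ f = S.f.app j ≫ c.ι.app j := fun j => hc₁.fac _ j
  have hE := colim.exact_mapShortComplex (S := S) hS hc₁ hc hcG f θ hf (fun j => by
    change c.ι.app j ≫ θ = (c.ι.app j ≫ θ) ≫ 𝟙 G
    rw [Category.comp_id])
  have hfθ : f ≫ θ = 0 := (colim.mapShortComplex S hc₁ c cG f θ hf (fun j => by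
    change c.ι.app j ≫ θ = (c.ι.app j ≫ θ) ≫ 𝟙 G
    rw [Category.comp_id])).zero
  have hepi : Epi (kernel.lift θ f hfθ) := (ShortComplex.exact_iff_epi_kernel_lift _).1 hE
  have hP : P.Factors (kernel.lift θ f hfθ) := by
    refine factors_of_isColimit hc₁ _ _ fun j => ?_
    have e1 : c₁.ι.app j ≫ kernel.lift θ f hfθ =
        (PreservesKernel.iso ((evaluation J C).obj j) α).hom ≫
          kernel.lift θ (kernel.ι (c.ι.app j ≫ θ) ≫ c.ι.app j) (by
            rw [Category.assoc, kernel.condition]) := by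
      rw [← cancel_mono (kernel.ι θ), Category.assoc, kernel.lift_ι, hf, Category.assoc,
        kernel.lift_ι]
      have e2 := kernelComparison_comp_ι α ((evaluation J C).obj j)
      rw [← PreservesKernel.iso_hom] at e2
      have e3 : (PreservesKernel.iso ((evaluation J C).obj j) α).hom ≫
        kernel.ι (c.ι.app j ≫ θ) = (kernel.ι α).app j := e2
      rw [reassoc_of% e3]
    rw [e1]
    exact Subobject.factors_of_factors_right _ (h j)
  have : Epi (P.factorThru _ hP ≫ P.arrow) := by
    rw [Subobject.factorThru_arrow]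
    exact hepi
  have : Epi P.arrow := epi_of_epi (P.factorThru _ hP) _
  have : IsIso P.arrow := isIso_of_mono_of_epi _
  exact (Subobject.isIso_arrow_iff_eq_top P).1 this

/-- The kernel of a map from an object of `Q` to a filtered colimit of objects of `Q`. -/
theorem kernel_of_ind {A G : C} (f : A ⟶ G) (hA : Q A) (hG : ObjectProperty.ind.{v} Q G) :
    Q (Limits.kernel f) := by
  have := hQ.iso
  have h1 : Q (image f) := hQ.img (factorThruImage f) (image.ι f) hA hG
  have h2 : Q (Limits.kernel (factorThruImage f)) := hQ.kernel _ hA h1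
  refine Q.prop_of_iso ?_ h2
  exact (kernelCompMono (factorThruImage f) (image.ι f)).symm ≪≫ kernelIsoOfEq (image.fac f)

/-- `Q.ind` is closed under kernels. -/
theorem ind_kernel {F G : C} (θ : F ⟶ G) (hF : ObjectProperty.ind.{v} Q F)
    (hG : ObjectProperty.ind.{v} Q G) : ObjectProperty.ind.{v} Q (Limits.kernel θ) := by
  have := hQ.iso
  have h1 : ∀ {A B : C} (p : A ⟶ B) (i : B ⟶ Limits.kernel θ) [Epi p] [Mono i], Q A → Q B :=
    fun p i _ _ hA => hQ.img p (i ≫ kernel.ι θ) hA hF
  rw [hQ.ind_iff]
  refine ⟨h1, ?_⟩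
  obtain ⟨J, _, _, pres, hJ⟩ := hF
  refine kernel_eq_top pres.isColimit θ _ fun j => ?_
  let g : Limits.kernel (pres.ι.app j ≫ θ) ⟶ Limits.kernel θ :=
    kernel.lift θ (kernel.ι (pres.ι.app j ≫ θ) ≫ pres.ι.app j) (by
      rw [Category.assoc, kernel.condition])
  change Subobject.Factors _ g
  have h2 : Q (Limits.kernel (pres.ι.app j ≫ θ)) := hQ.kernel_of_ind _ (hJ j) hG
  have h3 : Q (image g) := h1 (factorThruImage g) (image.ι g) h2
  have h4 : (Subobject.mk (image.ι g)).Factors g := by
    have h5 : (Subobject.mk (image.ι g)).Factors (factorThruImage g ≫ image.ι g) :=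
      Subobject.factors_of_factors_right _ (Subobject.mk_factors_self _)
    rwa [image.fac] at h5
  exact Subobject.factors_of_le _ (le_sSup (show Subobject.mk (image.ι g) ∈
    {A : Subobject (Limits.kernel θ) | Q (A : C)} from
      Q.prop_of_iso (Subobject.underlyingIso _).symm h3)) h4

/-- The image of a map between filtered colimits of objects of `Q`. -/
theorem ind_image {F G X : C} (p : F ⟶ X) (i : X ⟶ G) [Epi p] [Mono i]
    (hF : ObjectProperty.ind.{v} Q F)
    (hG : ObjectProperty.ind.{v} Q G) : ObjectProperty.ind.{v} Q X := by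
  have := hQ.iso
  have h1 : ∀ {A B : C} (p : A ⟶ B) (i : B ⟶ X) [Epi p] [Mono i], Q A → Q B :=
    fun q j _ _ hA => hQ.img q (j ≫ i) hA hG
  rw [hQ.ind_iff]
  refine ⟨h1, ?_⟩
  have h6 : (sSup {A : Subobject X | Q (A : C)}).Factors p := by
    refine factors_of_ind hF _ _ fun {A} g hA => ?_
    have h3 : Q (image (g ≫ p)) := h1 (factorThruImage (g ≫ p)) (image.ι (g ≫ p)) hA
    have h4 : (Subobject.mk (image.ι (g ≫ p))).Factors (g ≫ p) := by
      have h5 : (Subobject.mk (image.ι (g ≫ p))).Factors
          (factorThruImage (g ≫ p) ≫ image.ι (g ≫ p)) :=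
        Subobject.factors_of_factors_right _ (Subobject.mk_factors_self _)
      rwa [image.fac] at h5
    exact Subobject.factors_of_le _ (le_sSup (show Subobject.mk (image.ι (g ≫ p)) ∈
      {A : Subobject X | Q (A : C)} from
        Q.prop_of_iso (Subobject.underlyingIso _).symm h3)) h4
  have : Epi (Subobject.factorThru _ p h6 ≫ (sSup {A : Subobject X | Q (A : C)}).arrow) := by
    rw [Subobject.factorThru_arrow]
    infer_instance
  have : Epi (sSup {A : Subobject X | Q (A : C)}).arrow := epi_of_epi (Subobject.factorThru _ p h6) _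
  have : IsIso (sSup {A : Subobject X | Q (A : C)}).arrow := isIso_of_mono_of_epi _
  exact (Subobject.isIso_arrow_iff_eq_top _).1 this

/-- Quotients of filtered colimits of objects of `Q` by such. -/
theorem ind_quot {G X : C} (π : G ⟶ X) [Epi π] (hG : ObjectProperty.ind.{v} Q G)
    (hK : ObjectProperty.ind.{v} Q (Limits.kernel π)) : ObjectProperty.ind.{v} Q X := by
  have := hQ.iso
  have key : ∀ {A : C} (g : A ⟶ G), Q A → Q (image (g ≫ π)) := by
    intro A g hA
    -- kernel of `g ≫ π` is the kernel of `A ⊞ K → G`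
    have hA' : ObjectProperty.ind.{v} Q A := Q.le_ind _ hA
    let φ : A ⊞ Limits.kernel π ⟶ G := biprod.desc g (kernel.ι π)
    have h1 : ObjectProperty.ind.{v} Q (Limits.kernel φ) := hQ.ind_kernel φ (hQ.ind_biprod hA' hK) hG
    have h50 : kernel.ι φ ≫ biprod.fst ≫ g + kernel.ι φ ≫ biprod.snd ≫ kernel.ι π = 0 := by
      rw [← Preadditive.comp_add, ← biprod.desc_eq]
      exact kernel.condition φ
    let ψ : Limits.kernel φ ⟶ Limits.kernel (g ≫ π) :=
      kernel.lift _ (kernel.ι φ ≫ biprod.fst) (by
        have h3 : kernel.ι φ ≫ biprod.fst ≫ g = - (kernel.ι φ ≫ biprod.snd ≫ kernel.ι π) := by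
          rw [eq_neg_iff_add_eq_zero, h50]
        simp only [Category.assoc]
        rw [reassoc_of% h3]
        simp)
    have hψm : Mono ψ := by
      rw [Preadditive.mono_iff_cancel_zero]
      intro P' u hu
      have h3 : u ≫ kernel.ι φ ≫ biprod.fst = 0 := by
        have := congrArg (· ≫ kernel.ι (g ≫ π)) hu
        simpa [ψ] using this
      have h4 : u ≫ kernel.ι φ ≫ biprod.snd ≫ kernel.ι π = 0 := by
        have h6 := congrArg (fun t => u ≫ t) h50
        simp only [Preadditive.comp_add, comp_zero] at h6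
        rw [reassoc_of% h3, zero_comp, zero_add] at h6
        exact h6
      rw [← cancel_mono (kernel.ι φ), zero_comp]
      apply biprod.hom_ext
      · simpa using h3
      · rw [← cancel_mono (kernel.ι π)]
        simpa using h4
    have hψe : IsSplitEpi ψ := by
      refine ⟨⟨⟨kernel.lift φ (biprod.lift (kernel.ι (g ≫ π))
        (- kernel.lift π (kernel.ι (g ≫ π) ≫ g) (by rw [Category.assoc, kernel.condition]))) ?_, ?_⟩⟩⟩
      · simp [φ]
      · rw [← cancel_mono (kernel.ι (g ≫ π))]
        simp [ψ]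
    have hψ : IsIso ψ := isIso_of_mono_of_isSplitEpi ψ
    have h3 : ObjectProperty.ind.{v} Q (Limits.kernel (g ≫ π)) :=
      ObjectProperty.prop_of_iso _ (asIso ψ) h1
    have h4 : Q (Limits.kernel (g ≫ π)) := hQ.sub (kernel.ι (g ≫ π)) hA h3
    have h5 : Q (Limits.cokernel (kernel.ι (g ≫ π))) := hQ.cokernel _ h4 hA
    refine Q.prop_of_iso ?_ h5
    exact (Abelian.coimageIsoImage' (g ≫ π))
  let S : Set (Subobject X) := {D | ∃ (A : C) (g : A ⟶ G), Q A ∧ D = Subobject.mk (image.ι (g ≫ π))}
  have hfac {A : C} (g : A ⟶ G) : (Subobject.mk (image.ι (g ≫ π))).Factors (g ≫ π) := by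
    have h5 : (Subobject.mk (image.ι (g ≫ π))).Factors
        (factorThruImage (g ≫ π) ≫ image.ι (g ≫ π)) :=
      Subobject.factors_of_factors_right _ (Subobject.mk_factors_self _)
    rwa [image.fac] at h5
  have hle {A : C} (f : A ⟶ X) (P : Subobject X) (h : P.Factors f) :
      Subobject.mk (image.ι f) ≤ P := by
    exact imageSubobject_le f (P.factorThru f h) (P.factorThru_arrow f h)
  refine ind_of_directedOn Q S ?_ ?_ ?_ ?_
  · obtain ⟨Z, hZ⟩ := (inferInstance : HasZeroObject C).zero
    exact ⟨_, Z, 0, hQ.zero hZ, rfl⟩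
  · rintro _ ⟨A, g, hA, rfl⟩ _ ⟨A', g', hA', rfl⟩
    refine ⟨_, ⟨A ⊞ A', biprod.desc g g', hQ.biprod hA hA', rfl⟩, ?_, ?_⟩
    · have h1 := hfac (biprod.desc g g')
      have h2 : (Subobject.mk (image.ι (biprod.desc g g' ≫ π))).Factors (g ≫ π) := by
        have h3 : (Subobject.mk (image.ι (biprod.desc g g' ≫ π))).Factors
            (biprod.inl ≫ biprod.desc g g' ≫ π) := Subobject.factors_of_factors_right _ h1
        simpa using h3
      exact hle _ _ h2
    · have h1 := hfac (biprod.desc g g')
      have h2 : (Subobject.mk (image.ι (biprod.desc g g' ≫ π))).Factors (g' ≫ π) := by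
        have h3 : (Subobject.mk (image.ι (biprod.desc g g' ≫ π))).Factors
            (biprod.inr ≫ biprod.desc g g' ≫ π) := Subobject.factors_of_factors_right _ h1
        simpa using h3
      exact hle _ _ h2
  · rintro _ ⟨A, g, hA, rfl⟩
    exact Q.prop_of_iso (Subobject.underlyingIso _).symm (key g hA)
  · have h6 : (sSup S).Factors π := by
      refine factors_of_ind hG _ _ fun {A} g hA => ?_
      exact Subobject.factors_of_le _ (le_sSup ⟨A, g, hA, rfl⟩) (hfac g)
    have : Epi (Subobject.factorThru _ π h6 ≫ (sSup S).arrow) := by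
      rw [Subobject.factorThru_arrow]
      infer_instance
    have : Epi (sSup S).arrow := epi_of_epi (Subobject.factorThru _ π h6) _
    have : IsIso (sSup S).arrow := isIso_of_mono_of_epi _
    exact (Subobject.isIso_arrow_iff_eq_top _).1 this

/-- `Q.ind` is closed under cokernels. -/
theorem ind_cokernel {F G : C} (θ : F ⟶ G) (hF : ObjectProperty.ind.{v} Q F)
    (hG : ObjectProperty.ind.{v} Q G) : ObjectProperty.ind.{v} Q (Limits.cokernel θ) := by
  refine hQ.ind_quot (cokernel.π θ) hG ?_
  have h1 : ObjectProperty.ind.{v} Q (image θ) :=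
    hQ.ind_image (factorThruImage θ) (image.ι θ) hF hG
  exact ObjectProperty.prop_of_iso _ (Abelian.imageIsoImage θ).symm h1

/-- `Q.ind` is closed under coproducts. -/
theorem ind_sigma {I : Type v} (X : I → C) (hX : ∀ i, ObjectProperty.ind.{v} Q (X i)) :
    ObjectProperty.ind.{v} Q (∐ X) := by
  have := hQ.iso
  classical
  let e (s : Finset I) : ∐ X ⟶ ∐ X := Sigma.desc fun i => if i ∈ s then Sigma.ι X i else 0
  have he (s : Finset I) (i : I) : Sigma.ι X i ≫ e s = if i ∈ s then Sigma.ι X i else 0 :=
    Sigma.ι_desc _ _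
  let pr (i : I) : ∐ X ⟶ X i := Sigma.desc fun j =>
    if h : j = i then eqToHom (by rw [h]) else 0
  have hpr (i j : I) : Sigma.ι X j ≫ pr i = if h : j = i then eqToHom (by rw [h]) else 0 :=
    Sigma.ι_desc _ _
  have hpr1 (i : I) : Sigma.ι X i ≫ pr i = 𝟙 _ := by rw [hpr, dif_pos rfl]; rfl
  have hpr2 {i j : I} (h : j ≠ i) : Sigma.ι X j ≫ pr i = 0 := by rw [hpr, dif_neg h]
  have hfin (s : Finset I) : ∃ (Y : C) (a : Y ⟶ ∐ X) (r : ∐ X ⟶ Y), a ≫ r = 𝟙 Y ∧
      r ≫ a = e s ∧ ObjectProperty.ind.{v} Q Y := by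
    induction s using Finset.induction_on with
    | empty =>
      obtain ⟨Z, hZ⟩ := (inferInstance : HasZeroObject C).zero
      refine ⟨Z, 0, 0, hZ.eq_of_src _ _, ?_, Q.le_ind _ (hQ.zero hZ)⟩
      apply Sigma.hom_ext
      intro i
      rw [he]
      simp
    | insert i s hi ih =>
      obtain ⟨Y, a, r, h1, h2, hY⟩ := ih
      have h3 : a ≫ pr i = 0 := by
        have h4 : e s ≫ pr i = 0 := by
          apply Sigma.hom_ext
          intro j
          rw [← Category.assoc, he, comp_zero]
          split_ifs with hj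
          · exact hpr2 (fun h => hi (h ▸ hj))
          · exact zero_comp
        rw [← Category.id_comp a, ← h1, Category.assoc, Category.assoc, reassoc_of% h2, h4,
          comp_zero]
      have h5 : Sigma.ι X i ≫ r = 0 := by
        rw [← Category.comp_id r, ← h1, reassoc_of% h2]
        rw [← Category.assoc, he, if_neg hi, zero_comp]
      refine ⟨Y ⊞ X i, biprod.desc a (Sigma.ι X i), biprod.lift r (pr i), ?_, ?_,
        hQ.ind_biprod hY (hX i)⟩
      · apply biprod.hom_ext'
        · apply biprod.hom_ext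
          · simp [h1]
          · simp [h3]
        · apply biprod.hom_ext
          · simp [h5]
          · simp [hpr1]
      · rw [biprod.lift_desc, h2]
        apply Sigma.hom_ext
        intro j
        rw [he, Preadditive.comp_add, he]
        by_cases hj : j = i
        · subst hj
          rw [if_neg hi, zero_add, ← Category.assoc, hpr1, Category.id_comp, if_pos (by simp)]
        · rw [← Category.assoc, hpr2 hj, zero_comp, add_zero]
          simp [Finset.mem_insert, hj]
  choose Y a r har hra hY using hfin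
  have ham (s : Finset I) : Mono (a s) := mono_of_mono_fac (har s)
  have hιa {s : Finset I} {i : I} (hi : i ∈ s) : (Sigma.ι X i ≫ r s) ≫ a s = Sigma.ι X i := by
    rw [Category.assoc, hra, he, if_pos hi]
  have hle {s t : Finset I} (h : s ⊆ t) : Subobject.mk (a s) ≤ Subobject.mk (a t) := by
    refine Subobject.mk_le_mk_of_comm (a s ≫ r t) ?_
    have h1 : e s ≫ e t = e s := by
      apply Sigma.hom_ext
      intro i
      rw [← Category.assoc, he]
      split_ifs with hi
      · rw [he, if_pos (h hi)]
      · exact zero_comp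
    rw [Category.assoc, hra, ← Category.id_comp (a s), ← har, Category.assoc, Category.assoc,
      reassoc_of% hra, h1, ← hra, Category.assoc]
  let S : Set (Subobject (∐ X)) := {D | Q (D : C) ∧ ∃ s : Finset I, D ≤ Subobject.mk (a s)}
  -- two members of `S` in a common sub-coproduct
  have hjoin (s : Finset I) (D E : Subobject (∐ X)) (hD : Q (D : C)) (hE : Q (E : C))
      (hDs : D ≤ Subobject.mk (a s)) (hEs : E ≤ Subobject.mk (a s)) :
      ∃ F ∈ S, D ≤ F ∧ E ≤ F := by
    let d : (D : C) ⟶ Y s := Subobject.ofLEMk D (a s) hDs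
    let e' : (E : C) ⟶ Y s := Subobject.ofLEMk E (a s) hEs
    have hd : d ≫ a s = D.arrow := Subobject.ofLEMk_comp hDs
    have he' : e' ≫ a s = E.arrow := Subobject.ofLEMk_comp hEs
    let f : ((D : C) ⊞ (E : C)) ⟶ Y s := biprod.desc d e'
    have hf : Q (image f) := hQ.img (factorThruImage f) (image.ι f) (hQ.biprod hD hE) (hY s)
    refine ⟨Subobject.mk (image.ι f ≫ a s),
      ⟨Q.prop_of_iso (Subobject.underlyingIso _).symm hf, s,
        Subobject.mk_le_mk_of_comm (image.ι f) rfl⟩, ?_, ?_⟩
    · refine Subobject.le_mk_of_comm (biprod.inl ≫ factorThruImage f) ?_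
      rw [Category.assoc, image.fac_assoc, biprod.inl_desc_assoc, hd]
    · refine Subobject.le_mk_of_comm (biprod.inr ≫ factorThruImage f) ?_
      rw [Category.assoc, image.fac_assoc, biprod.inr_desc_assoc, he']
  refine ind_of_directedOn Q S ?_ ?_ (fun D hD => hD.1) ?_
  · exact ⟨⊥, hQ.zero (IsZero.of_iso (isZero_zero C) (Subobject.botCoeIsoZero)), ∅, bot_le⟩
  · rintro D ⟨hD, s, hDs⟩ E ⟨hE, t, hEt⟩
    exact hjoin (s ∪ t) D E hD hE (hDs.trans (hle Finset.subset_union_left))
      (hEt.trans (hle Finset.subset_union_right))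
  · have h6 (i : I) : (sSup S).Factors (Sigma.ι X i) := by
      have h7 : (sSup S).Factors (𝟙 (X i) ≫ Sigma.ι X i) := by
        rw [Category.id_comp]
        refine factors_of_ind (hX i) _ _ fun {A} g hA => ?_
        have hAi : Q (image g) := hQ.img (factorThruImage g) (image.ι g) hA (hX i)
        have hm : Mono (Sigma.ι X i) := mono_of_mono_fac (hpr1 i)
        have h8 : (Subobject.mk (image.ι g ≫ Sigma.ι X i)).Factors (g ≫ Sigma.ι X i) := by
          rw [Subobject.mk_factors_iff]
          exact ⟨factorThruImage g, by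
            change factorThruImage g ≫ image.ι g ≫ Sigma.ι X i = _
            rw [image.fac_assoc]⟩
        refine Subobject.factors_of_le _ (le_sSup ?_) h8
        refine ⟨Q.prop_of_iso (Subobject.underlyingIso _).symm hAi, {i}, ?_⟩
        refine Subobject.mk_le_mk_of_comm (image.ι g ≫ Sigma.ι X i ≫ r {i}) ?_
        rw [Category.assoc, hιa (by simp)]
      rwa [Category.id_comp] at h7
    apply eq_top_of_factors_id
    refine factors_of_isColimit (colimit.isColimit (Discrete.functor X)) (𝟙 (∐ X)) _ fun j => ?_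
    have h9 := h6 j.as
    rwa [← Category.comp_id (Sigma.ι X j.as)] at h9

/-- `Q.ind` is closed under all small colimits. -/
theorem ind_isClosedUnderColimitsOfShape (J : Type v) [SmallCategory J] :
    (ObjectProperty.ind.{v} Q).IsClosedUnderColimitsOfShape J := by
  have := hQ.iso
  refine ObjectProperty.IsClosedUnderColimitsOfShape.mk' ?_
  rintro _ ⟨F, hF⟩
  let c₁ : Cofan (fun f : Σ p : J × J, p.1 ⟶ p.2 => F.obj f.1.1) := colimit.cocone _
  let c₂ : Cofan F.obj := colimit.cocone _
  let s : c₁.pt ⟶ c₂.pt := Sigma.desc fun f => F.map f.2 ≫ colimit.ι (Discrete.functor F.obj) ⟨f.1.2⟩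
  let t : c₁.pt ⟶ c₂.pt := Sigma.desc fun f => colimit.ι (Discrete.functor F.obj) ⟨f.1.1⟩
  let i : Cofork s t := Preadditive.coforkOfCokernelCofork
    (CokernelCofork.ofπ (cokernel.π (s - t)) (cokernel.condition (s - t)))
  have hi : IsColimit i :=
    Preadditive.isColimitCoforkOfCokernelCofork (cokernelIsCokernel (s - t))
  have hc := HasColimitOfHasCoproductsOfHasCoequalizers.buildIsColimit (F := F) s t
    (fun f => Sigma.ι_desc _ _) (fun f => Sigma.ι_desc _ _)
    (colimit.isColimit _) (colimit.isColimit _) hi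
  have h1 : ObjectProperty.ind.{v} Q (Limits.cokernel (s - t)) :=
    hQ.ind_cokernel _ (hQ.ind_sigma _ fun f => hF f.1.1) (hQ.ind_sigma _ hF)
  exact ObjectProperty.prop_of_iso _ (hc.coconePointUniqueUpToIso (colimit.isColimit F)) h1

end CohCls

end K180.IndUnion
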