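import Groth.Agent.FSch.K180.FRel
import Groth.Agent.FSch.K181.Gen
import Mathlib.LinearAlgebra.TensorProduct.Pi

/-!
# Relations between sections of quasi-coherent modules are locally finitely generated
-/

set_option autoImplicit false
set_option linter.style.haveILetI false

universe u

open CategoryTheory CategoryTheory.Limits Opposite TopologicalSpace TensorProduct

namespace K180.QCRel

section Alg

variable {A B : Type*} [CommRing A] [CommRing B] [Algebra A B] {M N : Type*} [AddCommGroup M]
  [Module A M] [AddCommGroup N] [Module A N] [Module B N] [IsScalarTower A B N] (f : M →ₗ[A] N)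
  {p q : ℕ}

theorem phi_comb (g : Fin q → Fin p → A) (w : B ⊗[A] (Fin q → A)) (j : Fin p) :
    TensorProduct.piScalarRight A B B (Fin p)
      ((Fintype.linearCombination A g).lTensor B w) j =
      ∑ k, TensorProduct.piScalarRight A B B (Fin q) w k * algebraMap A B (g k j) := by
  induction w using TensorProduct.induction_on with
  | zero => simp
  | tmul b a =>
    simp only [LinearMap.lTensor_tmul, piScalarRight_apply, piScalarRightHom_tmul,
      Fintype.linearCombination_apply, Finset.sum_apply, Pi.smul_apply, smul_eq_mul,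
      Finset.sum_smul]
    refine Finset.sum_congr rfl fun k _ => ?_
    rw [Algebra.smul_def, Algebra.smul_def, map_mul]
    ring
  | add x y hx hy => 
    rw [map_add, map_add, Pi.add_apply, hx, hy, map_add, ← Finset.sum_add_distrib]
    exact Finset.sum_congr rfl fun k _ => by rw [Pi.add_apply, add_mul]

theorem bc_comb (u : Fin p → M) (z : B ⊗[A] (Fin p → A)) :
    K181.BC.bc (B := B) f ((Fintype.linearCombination A u).lTensor B z) =
      ∑ j, TensorProduct.piScalarRight A B B (Fin p) z j • f (u j) := by
  induction z using TensorProduct.induction_on with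
  | zero => simp
  | tmul b a =>
    simp only [LinearMap.lTensor_tmul, piScalarRight_apply, piScalarRightHom_tmul,
      Fintype.linearCombination_apply, K181.BC.bc_tmul, map_sum, map_smul, Finset.smul_sum]
    refine Finset.sum_congr rfl fun k _ => ?_
    rw [smul_comm, smul_assoc]
  | add x y hx hy =>
    rw [map_add, map_add, hx, hy, map_add, ← Finset.sum_add_distrib]
    exact Finset.sum_congr rfl fun k _ => by rw [Pi.add_apply, add_smul]

/-- Relations over a flat base change are generated by relations over the base. -/
theorem exists_rel [Module.Flat A B] (hf : Function.Injective (K181.BC.bc (B := B) f))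
    (u : Fin p → M) (g : Fin q → Fin p → A)
    (hg : Submodule.span A (Set.range g) = LinearMap.ker (Fintype.linearCombination A u))
    (c : Fin p → B) (hc : ∑ j, c j • f (u j) = 0) :
    ∃ d : Fin q → B, ∀ j, c j = ∑ k, d k * algebraMap A B (g k j) := by
  have hex : Function.Exact (Fintype.linearCombination A g) (Fintype.linearCombination A u) := by
    rw [LinearMap.exact_iff, ← hg, Fintype.range_linearCombination]
  have hexB : Function.Exact ((Fintype.linearCombination A g).lTensor B)
      ((Fintype.linearCombination A u).lTensor B) := Module.Flat.lTensor_exact B hex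
  let z := (TensorProduct.piScalarRight A B B (Fin p)).symm c
  have hz : TensorProduct.piScalarRight A B B (Fin p) z = c :=
    (TensorProduct.piScalarRight A B B (Fin p)).apply_symm_apply c
  have h0 : (Fintype.linearCombination A u).lTensor B z = 0 := by
    apply hf
    rw [bc_comb, hz, hc, map_zero]
  obtain ⟨w, hw⟩ := (hexB z).1 h0
  refine ⟨TensorProduct.piScalarRight A B B (Fin q) w, fun j => ?_⟩
  rw [← hz, ← hw, phi_comb]

end Alg

open K29.RSec K181.Good K181.BC K180.FRel
open Groth.Agent.Gaga.H976.TM3 (LRel rs rr)

variable {T : TopCat.{u}} {R : Sheaf (Opens.grothendieckTopology T) CommRingCat.{u}}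

/-- Relations between sections over `U` of a cartesian sheaf are finitely generated. -/
theorem exists_rel_of_cart (𝔅 : GoodCov R) (hN : ∀ U ∈ 𝔅.B, IsNoetherianRing (O R U)) {F : Mod R}
    {U : Opens T} (h : Cart 𝔅 F U) {p : ℕ} (u : Fin p → Sec F U) :
    ∃ (q : ℕ) (ρ : Fin q → Fin p → O R U), K29.RPres.Rel F U u ρ := by
  have hU := h.mem
  have := hN U hU
  obtain ⟨q, ρ, hρ⟩ := Submodule.fg_iff_exists_fin_generating_family.1
    (IsNoetherian.noetherian (LinearMap.ker (Fintype.linearCombination (O R U) u)))
  refine ⟨q, ρ, fun k => ?_, fun V hV c hc x hx => ?_⟩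
  · have e : ρ k ∈ LinearMap.ker (Fintype.linearCombination (O R U) u) := by
      rw [← hρ]; exact Submodule.subset_span ⟨k, rfl⟩
    rwa [LinearMap.mem_ker, Fintype.linearCombination_apply] at e
  · obtain ⟨W, hW, hxW, hWV⟩ := 𝔅.exists_mem hx
    refine ⟨W, hWV, hxW, ?_⟩
    letI : Algebra (O R U) (O R W) := (resO (R := R) (hWV.trans hV)).toAlgebra
    letI : Module (O R U) (Sec F W) := Module.compHom _ (resO (R := R) (hWV.trans hV))
    haveI : IsScalarTower (O R U) (O R W) (Sec F W) :=
      IsScalarTower.of_algebraMap_smul fun _ _ => rfl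
    have hfl : Module.Flat (O R U) (O R W) := by
      rw [← RingHom.flat_algebraMap_iff]
      exact 𝔅.flat (hWV.trans hV) hU hW
    have hb : Function.Bijective (bc (B := O R W) (toLin (M := Sec F U) (N := Sec F W)
      (resO (R := R) (hWV.trans hV)) rfl (resS F (hWV.trans hV)))) :=
      (h.2 W hW (hWV.trans hV)).bij _ _ _ rfl _ fun _ => rfl
    refine exists_rel _ hb.1 u ρ hρ (fun j => resO hWV (c j)) ?_
    have h2 := congrArg (res F hWV) hc
    rw [map_zero, map_sum] at h2
    refine Eq.trans ?_ h2
    refine Finset.sum_congr rfl fun j _ => ?_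
    rw [res_smul, res_res]
    rfl

/-- Relations between finitely many sections of a quasi-coherent module are locally finitely
generated. -/
theorem rAt_of_qc (𝔅 : GoodCov R) (hN : ∀ U ∈ 𝔅.B, IsNoetherianRing (O R U)) {F : Mod R}
    (hF : SheafOfModules.IsQuasicoherent.{u} F) (x : T) : RAt (R := ringSheaf R) F x := by
  intro W hx p u
  obtain ⟨W₁, hx₁, h⟩ := exists_cart_of_qc 𝔅 F hF x
  obtain ⟨U, hU, hxU, hUW⟩ := 𝔅.exists_mem (show x ∈ W ⊓ W₁ from ⟨hx, hx₁⟩)
  obtain ⟨q, ρ, hρ⟩ := exists_rel_of_cart 𝔅 hN (h U hU (hUW.trans inf_le_right))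
    (fun k => res F (hUW.trans inf_le_left) (u k))
  exact ⟨U, hUW.trans inf_le_left, hxU, q, ρ, hρ⟩

end K180.QCRel
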