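import Groth.Agent.FSch.K180.WSer
import Groth.Agent.FSch.K180.ExtClosed
import Groth.Agent.FSch.K180.QCRel
import Groth.Agent.FSch.K180.IndCls

/-!
# Ind-coherent modules on a Noetherian formal scheme form a weak Serre class
-/

set_option autoImplicit false

universe u

open CategoryTheory CategoryTheory.Limits Opposite TopologicalSpace AlgebraicGeometry
open scoped ZeroObject

namespace K180.Main

open K29.RSec K181.Good K181.Formal K180.WSer K180.IndUnion

variable {𝔛 : FSch.Sys.{u}} (h𝔛 : 𝔛.IsLocNoethFormal)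

/-- The class of coherent modules. -/
abbrev Coh : ObjectProperty (FSch.ModF 𝔛 h𝔛.1) := fun 𝔊 => FSch.IsCohF 𝔛 h𝔛.1 𝔊

/-- The class of ind-coherent modules. -/
abbrev Ind : ObjectProperty (FSch.ModF 𝔛 h𝔛.1) :=
  ObjectProperty.ind.{u} fun 𝔊 : FSch.ModF 𝔛 h𝔛.1 => FSch.IsCohF 𝔛 h𝔛.1 𝔊

include h𝔛 in
theorem noetherianSpace [CompactSpace (𝔛.X 0)] : NoetherianSpace (𝔛.X 0) := by
  have := h𝔛.2.2 0
  have : IsNoetherian (𝔛.X 0) := {}
  infer_instance

/-- Extensions of ind-coherent modules on a Noetherian formal scheme are ind-coherent. -/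
theorem ind_ext [CompactSpace (𝔛.X 0)] (S : ShortComplex (FSch.ModF 𝔛 h𝔛.1)) (hS : S.ShortExact)
    (h₁ : Ind h𝔛 S.X₁) (h₃ : Ind h𝔛 S.X₃) : Ind h𝔛 S.X₂ := by
  have := noetherianSpace h𝔛
  exact ExtClosed.ind_ext (R := 𝔛.Osh h𝔛.1) (cohCls h𝔛)
    (fun M hM x => QCRel.rAt_of_qc (fcov h𝔛) (fun _ hU => isNoetherianRing_O h𝔛 hU)
      (isQuasicoherent_of_indCoh h𝔛 hM) x) S hS h₁ h₃

/-- Ind-coherent modules on a Noetherian formal scheme form a weak Serre class. -/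
theorem isWeakSerre_ind [CompactSpace (𝔛.X 0)] : WSerre.IsWeakSerre (Ind h𝔛) := by
  have := (cohCls h𝔛).iso
  refine K919.SerreTors.isWeakSerre_of _ ⟨0, isZero_zero _, ?_⟩ ?_ ?_ ?_
  · exact ObjectProperty.le_ind _ _ ((cohCls h𝔛).zero (isZero_zero _))
  · exact fun f h1 h2 => (cohCls h𝔛).ind_kernel f h1 h2
  · intro S hS h1 h2
    have e : cokernel S.f ≅ S.X₃ := by
      have := hS.epi_g
      exact (cokernelIsCokernel S.f).coconePointUniqueUpToIso hS.gIsCokernel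
    exact (Ind h𝔛).prop_of_iso e ((cohCls h𝔛).ind_cokernel S.f h1 h2)
  · exact fun S hS h1 h3 => ind_ext h𝔛 S hS h1 h3

end K180.Main
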