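import Groth.Agent.FSch.K180.IndUnion
import Groth.Agent.FSch.K180.FTSmall
import Groth.Agent.FTors.K919.IndCoh
import Groth.Agent.Sga67.CohBasic
import Groth.Agent.PerfB.QCohLocal
import Groth.Agent.S0018

/-!
# Quasi-coherent modules on locally Noetherian schemes are the ind-coherent modules
-/

set_option autoImplicit false

universe u

open CategoryTheory CategoryTheory.Limits AlgebraicGeometry TopologicalSpace Opposite

namespace K180.SchInd

open K29.RSec K29.RExact Groth.Agent.Sga67

variable (X : Scheme.{u})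

/-- Coherent modules. -/
abbrev CohX : ObjectProperty X.Modules := fun M => Coh.IsCoh M

variable {X}

theorem isQCoh_of_ind {M : X.Modules} (hM : ObjectProperty.ind.{u} (CohX X) M) : Coh.IsQCoh M := by
  obtain ⟨J, _, _, pres, hJ⟩ := hM
  exact Groth.Agent.PerfB.QCohLocal.isQCoh_of_isColimit pres.diag (fun j => (hJ j).1) _ pres.isColimit

theorem isCoh_img {A B M : X.Modules} (p : A ⟶ B) (i : B ⟶ M) [Epi p] [Mono i] (hA : Coh.IsCoh A)
    (hM : Coh.IsQCoh M) : Coh.IsCoh B := by
  have h3 := CohBasic.isCoh_image (p ≫ i) hA hM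
  have : StrongEpi p := strongEpi_of_epi p
  let e : Abelian.image (p ≫ i) ≅ B := (Abelian.imageIsoImage (p ≫ i)) ≪≫
    (image.isoStrongEpiMono p i rfl).symm
  exact CohBasic.isCoh_of_iso e h3

/-- The class of coherent modules on a locally Noetherian scheme. -/
theorem cohCls [IsLocallyNoetherian X] : K180.IndUnion.CohCls (CohX X) where
  iso := ⟨fun e h => CohBasic.isCoh_of_iso e h⟩
  zero h := CohBasic.isCoh_of_isZero h
  biprod hA hB := CohBasic.isCoh_biprod hA hB
  kernel f hA hB := CohBasic.isCoh_kernel f hA hB.1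
  cokernel f hA hB := CohBasic.isCoh_cokernel f hA.1 hB
  img p i _ _ hA hM := isCoh_img p i hA (isQCoh_of_ind hM)
  sub i _ hA hB := CohBasic.isCoh_of_mono i hA (isQCoh_of_ind hB)

open ZeroObject in
/-- Quasi-coherent modules on a locally Noetherian scheme are filtered colimits of coherent modules. -/
theorem ind_of_isQCoh [IsLocallyNoetherian X] {M : X.Modules} (hM : Coh.IsQCoh M) :
    ObjectProperty.ind.{u} (CohX X) M := by
  have hC := cohCls (X := X)
  have hiso := hC.iso
  have hG : IsGrothendieckAbelian.{u} X.Modules := FTSmall.isGrothendieckAbelian X.sheaf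
  have key : ∀ {A B : X.Modules} (p : A ⟶ B) (i : B ⟶ M) [Epi p] [Mono i],
      Coh.IsCoh A → Coh.IsCoh B := fun p i _ _ hA => isCoh_img p i hA hM
  refine K919.IndCoh.ind_of_directedOn' _ {A : Subobject M | Coh.IsCoh (A : X.Modules)}
    ⟨Subobject.mk (0 : (0 : X.Modules) ⟶ M), ?_⟩ ?_ (fun A hA => hA) ?_
  · exact hC.zero ((isZero_zero _).of_iso (Subobject.underlyingIso _))
  · intro A hA B hB
    obtain ⟨D, hD, h1, h2⟩ := hC.exists_ge key A B hA hB
    exact ⟨D, hD, h1, h2⟩
  · intro P hle
    have hepi : Epi P.arrow := by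
      refine (epi_iff_local (R := X.sheaf) P.arrow).2 ?_
      intro V s x hx
      obtain ⟨W, hWa, hxW, hW⟩ := exists_isAffineOpen_mem_and_subset hx
      obtain ⟨N', hs, h1, h2⟩ := K919.IndCoh.exists_coh_sub_level M hM hWa (res (R := X.sheaf) M hW s)
      have h3 := hle (Subobject.mk N'.ι) (hiso.of_iso (Subobject.underlyingIso N'.ι).symm ⟨h1, h2⟩)
      have h4 : P.Factors N'.ι := Subobject.factors_of_le N'.ι h3 (Subobject.mk_factors_self N'.ι)
      refine ⟨W, hxW, hW, app (R := X.sheaf) (P.factorThru N'.ι h4) W (N'.sec _ hs), ?_⟩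
      refine (app_comp (R := X.sheaf) _ _ _ _).symm.trans ?_
      have h5 := P.factorThru_arrow N'.ι h4
      exact congrArg (fun a : N'.toModules ⟶ M => app (R := X.sheaf) a W (N'.sec _ hs)) h5
    have := isIso_of_mono_of_epi P.arrow
    exact (Subobject.isIso_arrow_iff_eq_top P).1 this

theorem ind_iff [IsLocallyNoetherian X] {M : X.Modules} :
    ObjectProperty.ind.{u} (CohX X) M ↔ Coh.IsQCoh M := ⟨isQCoh_of_ind, ind_of_isQCoh⟩

/-- Coherent modules on locally Noetherian schemes are of finite presentation. -/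
theorem isFinitePresentation_of_isCoh [IsLocallyNoetherian X] {M : X.Modules} (hM : Coh.IsCoh M) :
    SheafOfModules.IsFinitePresentation (R := X.ringCatSheaf) M :=
  (Groth.Agent.S0018.result X M).1 hM

end K180.SchInd
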