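import Groth.Agent.FSch.K180.IndFunctor
import Groth.Agent.FSch.K180.FpCompact
import Groth.Agent.FSch.K180.SchInd
import Groth.Agent.FSch.K180.Main
import Groth.Agent.FSch.K179.MonoEpi
import Groth.Agent.S13334
import Groth.Agent.S13335
import Groth.Agent.S13336
import Groth.Agent.S13337
import Groth.Agent.S13339
import Groth.Agent.S13340

/-!
# Quasi-coherent modules on a proper scheme over a complete ring and ind-coherent modules on its completion
-/

set_option autoImplicit false

universe u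

open CategoryTheory CategoryTheory.Limits AlgebraicGeometry TopologicalSpace Opposite

namespace K180.KapInd

open FSch K179.Iface K179.RealMod K179.Algz K179.AlgzKer K179.CompSys

variable {X : Scheme.{u}} {𝓘 : X.IdealSheafData} (hX : (completionAlong X 𝓘).IsFormal)

/-- The completion morphism. -/
noncomputable abbrev kap : ModSite.RMor ((completionAlong X 𝓘).Osh hX) X.sheaf :=
  toSchemeMor (completionAlong X 𝓘) hX (completionToX X 𝓘) (completionToX_comm X 𝓘)

/-- The completion functor on modules. -/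
noncomputable abbrev kpull : X.Modules ⥤ ModF (completionAlong X 𝓘) hX := (kap hX).pull

/-- The comparison `κ^* F ≅ F^`. -/
noncomputable def cmpIso [IsLocallyNoetherian X] {F : X.Modules} (hF : Coh.IsCoh F) :
    (kpull hX).obj F ≅ hat 𝓘 hX F :=
  (Groth.Agent.S13339.result X 𝓘 hX F hF).choose

theorem cmpIso_spec [IsLocallyNoetherian X] {F : X.Modules} (hF : Coh.IsCoh F) (k : ℕ) :
    ((kap hX).adj.homEquiv _ _ (cmpIso hX hF).hom) ≫
        (kap hX).push.map (realProj (completionAlong X 𝓘) hX (complMod 𝓘 F).F (complMod 𝓘 F).toPush k) =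
      (Scheme.Modules.pullbackPushforwardAdjunction (completionToX X 𝓘 k)).unit.app F ≫
        (schPushCompare (completionAlong X 𝓘) hX (completionToX X 𝓘) (completionToX_comm X 𝓘) k).app _ :=
  (Groth.Agent.S13339.result X 𝓘 hX F hF).choose_spec k

theorem cmpIso_naturality [IsLocallyNoetherian X] {F G : X.Modules} (hF : Coh.IsCoh F) (hG : Coh.IsCoh G)
    (v : F ⟶ G) : (kpull hX).map v ≫ (cmpIso hX hG).hom = (cmpIso hX hF).hom ≫ hatMap (𝓘 := 𝓘) hX v := by
  refine K179.RealMod.hom_ext hX fun k => ?_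
  apply ((kap hX).adj.homEquiv _ _).injective
  have h1 : hatMap (𝓘 := 𝓘) hX v ≫ realProj (completionAlong X 𝓘) hX (complMod 𝓘 G).F (complMod 𝓘 G).toPush k =
      realProj (completionAlong X 𝓘) hX (complMod 𝓘 F).F (complMod 𝓘 F).toPush k ≫
        (levelMor (completionAlong X 𝓘) hX k).push.map ((Scheme.Modules.pullback (completionToX X 𝓘 k)).map v) :=
    realModMap_proj hX (complModMap 𝓘 v) k
  have h2 := (schPushCompare (completionAlong X 𝓘) hX (completionToX X 𝓘) (completionToX_comm X 𝓘) k).naturality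
    ((Scheme.Modules.pullback (completionToX X 𝓘 k)).map v)
  have h3 := (Scheme.Modules.pullbackPushforwardAdjunction (completionToX X 𝓘 k)).unit.naturality v
  have h4 : ((kpull hX).map v ≫ (cmpIso hX hG).hom) ≫
      realProj (completionAlong X 𝓘) hX (complMod 𝓘 G).F (complMod 𝓘 G).toPush k =
      (kpull hX).map v ≫ ((cmpIso hX hG).hom ≫
        realProj (completionAlong X 𝓘) hX (complMod 𝓘 G).F (complMod 𝓘 G).toPush k) := Category.assoc _ _ _
  have h5 : ((cmpIso hX hF).hom ≫ hatMap (𝓘 := 𝓘) hX v) ≫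
      realProj (completionAlong X 𝓘) hX (complMod 𝓘 G).F (complMod 𝓘 G).toPush k =
      ((cmpIso hX hF).hom ≫ realProj (completionAlong X 𝓘) hX (complMod 𝓘 F).F (complMod 𝓘 F).toPush k) ≫
        (levelMor (completionAlong X 𝓘) hX k).push.map ((Scheme.Modules.pullback (completionToX X 𝓘 k)).map v) := by
    rw [Category.assoc, Category.assoc]
    exact congrArg (fun x => (cmpIso hX hF).hom ≫ x) h1
  refine (congrArg _ h4).trans (Eq.trans ?_ (congrArg _ h5).symm)
  refine ((kap hX).adj.homEquiv_naturality_left _ _).trans ?_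
  refine Eq.trans ?_ ((kap hX).adj.homEquiv_naturality_right _ _).symm
  refine (congrArg (fun x => v ≫ x) (((kap hX).adj.homEquiv_naturality_right _ _).trans (cmpIso_spec hX hG k))).trans ?_
  refine Eq.trans ?_ (congrArg (fun x => x ≫ (kap hX).push.map ((levelMor (completionAlong X 𝓘) hX k).push.map
    ((Scheme.Modules.pullback (completionToX X 𝓘 k)).map v)))
    (((kap hX).adj.homEquiv_naturality_right _ _).trans (cmpIso_spec hX hF k))).symm
  refine (Category.assoc _ _ _).symm.trans ?_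
  refine (congrArg (fun x => x ≫ (schPushCompare (completionAlong X 𝓘) hX (completionToX X 𝓘)
    (completionToX_comm X 𝓘) k).app _) h3).trans ?_
  refine (Category.assoc _ _ _).trans (Eq.trans ?_ (Category.assoc _ _ _).symm)
  exact congrArg (fun x => (Scheme.Modules.pullbackPushforwardAdjunction (completionToX X 𝓘 k)).unit.app F ≫ x) h2

variable {A : Type u} [CommRing A] [IsNoetherianRing A] (I : Ideal A) [IsAdicComplete I A]
  (f : X ⟶ Spec (CommRingCat.of A)) [IsProper f] (h𝓘 : 𝓘 = (FSch.idealSpec A I).comap f)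

include f in
theorem isLocallyNoetherian : IsLocallyNoetherian X := by
  have : IsNoetherianRing (CommRingCat.of A) := ‹IsNoetherianRing A›
  exact LocallyOfFiniteType.isLocallyNoetherian f

include f in
theorem noetherianSpace : NoetherianSpace X := by
  have := isLocallyNoetherian f
  have : CompactSpace X := QuasiCompact.compactSpace_of_compactSpace f
  have : IsNoetherian X := {}
  infer_instance

omit [IsNoetherianRing A] [IsAdicComplete I A] in
theorem isProperOver (Z : Set X) (hZ : IsClosed Z) : ClSub.IsProperOver f Z :=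
  ⟨hZ, inferInstance⟩

omit [IsNoetherianRing A] in
theorem isProperOver_support {F : X.Modules} (hF : Coh.IsCoh F) : ClSub.IsProperOver f (CohB1.support F) :=
  isProperOver f _ (Groth.Agent.Ega3B.Devissage.isClosed_support hF)

include f in
theorem isLocNoethFormal : (completionAlong X 𝓘).IsLocNoethFormal := by
  have := isLocallyNoetherian f
  exact Groth.Agent.S3854.result X 𝓘

include h𝓘 in
theorem faithful {F G : X.Modules} (hF : Coh.IsCoh F) (hG : Coh.IsCoh G) (v w : F ⟶ G)
    (h : (kpull hX).map v = (kpull hX).map w) : v = w := by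
  have := isLocallyNoetherian f
  rw [← sub_eq_zero]
  have hadd : (kpull hX).Additive := (kap hX).adj.left_adjoint_additive
  have h1 : (kpull hX).map (v - w) = 0 := by
    rw [Functor.map_sub, h, sub_self]
  have h2 : hatMap (𝓘 := 𝓘) hX (v - w) = 0 := by
    rw [← cancel_epi (cmpIso hX hF).hom, ← cmpIso_naturality hX hF hG, h1, zero_comp, comp_zero]
  obtain ⟨-, ⟨i⟩, -⟩ := hat_kernel_image_cokernel hX (fun X _ => Groth.Agent.S13340.result X) hF hG (v - w)
    (hatMap (𝓘 := 𝓘) hX (v - w)) (Iso.refl _) (Iso.refl _) (by simp)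
  have h3 : IsZero (Abelian.image (hatMap (𝓘 := 𝓘) hX (v - w))) := by
    rw [h2]
    have h4 : (Abelian.image.ι (0 : hat 𝓘 hX F ⟶ hat 𝓘 hX G)) = 0 := by
      rw [← cancel_epi (Abelian.factorThruImage (0 : hat 𝓘 hX F ⟶ hat 𝓘 hX G)), Abelian.image.fac, comp_zero]
    exact IsZero.of_mono_eq_zero _ h4
  have h5 := K179.MonoEpi.isZero_of_isZero_hat f (f.isClosedMap) I h𝓘 (fun 𝔛 h𝔛 𝔐 h𝔐 k =>
    Groth.Agent.S13336.result 𝔛 h𝔛 𝔐 h𝔐 k) hX (Groth.Agent.Sga67.CohBasic.isCoh_image (v - w) hF hG.1)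
    (h3.of_iso i.symm)
  rw [← Abelian.image.fac (v - w), h5.eq_of_tgt (Abelian.factorThruImage (v - w)) 0, zero_comp]

include h𝓘 in
/-- `κ^*` is fully faithful on coherent modules. -/
theorem bijective_coh {F G : X.Modules} (hF : Coh.IsCoh F) (hG : Coh.IsCoh G) :
    Function.Bijective (fun φ : F ⟶ G => (kpull hX).map φ) := by
  have := isLocallyNoetherian f
  refine ⟨fun v w h => faithful hX I f h𝓘 hF hG v w h, fun u => ?_⟩
  obtain ⟨v, hv⟩ := exists_hatMap_eq hX f (fun 𝔛 h𝔛 𝔐 𝔑 h𝔐 h𝔑 => Groth.Agent.S13337.result 𝔛 h𝔛 𝔐 𝔑 h𝔐 h𝔑) I h𝓘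
    hF hG (isProperOver_support f hF) (isProperOver_support f hG)
    ((cmpIso hX hF).inv ≫ u ≫ (cmpIso hX hG).hom)
  refine ⟨v, ?_⟩
  change (kpull hX).map v = u
  rw [← cancel_mono (cmpIso hX hG).hom, cmpIso_naturality hX hF hG, hv, Iso.hom_inv_id_assoc]

theorem isCohF_kpull [IsLocallyNoetherian X] (h𝔛 : (completionAlong X 𝓘).IsLocNoethFormal) {F : X.Modules}
    (hF : Coh.IsCoh F) : IsCohF (completionAlong X 𝓘) hX ((kpull hX).obj F) :=
  K180.FSchCls.isCohF_of_iso hX (cmpIso hX hF).symm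
    (Groth.Agent.S13334.result _ h𝔛 _ (isCoh_complMod hF))

include h𝓘 in
/-- Every coherent module on the completion is algebraizable. -/
theorem exists_coh (𝔉 : ModF (completionAlong X 𝓘) hX) (h𝔉 : IsCohF (completionAlong X 𝓘) hX 𝔉) :
    ∃ F : X.Modules, Coh.IsCoh F ∧ Nonempty ((kpull hX).obj F ≅ 𝔉) := by
  have := isLocallyNoetherian f
  obtain ⟨𝔐, h𝔐, ⟨e⟩⟩ := Groth.Agent.S13335.result _ (isLocNoethFormal (𝓘 := 𝓘) f) 𝔉 h𝔉
  obtain ⟨G, hG, -, ⟨e'⟩⟩ := isAlgz_realMod (f := f) (hX := hX) I h𝓘 𝔐 h𝔐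
    (isProperOver_support f (Groth.Agent.Sga2lef.H96.ModSysFormal.isCoh_pm 𝔐 0 (h𝔐 0)))
  exact ⟨G, hG, ⟨cmpIso hX hG ≪≫ e'.symm ≪≫ e.symm⟩⟩

theorem isFinitelyPresentable_coh [IsLocallyNoetherian X] [NoetherianSpace X] {F : X.Modules} (hF : Coh.IsCoh F) :
    IsFinitelyPresentable.{u} F := by
  rw [isFinitelyPresentable_iff_preservesFilteredColimitsOfSize]
  have : SheafOfModules.IsFinitePresentation (R := X.ringCatSheaf) F := SchInd.isFinitePresentation_of_isCoh hF
  exact ⟨fun J _ _ => FpCompact.preservesColimitsOfShape_coyoneda (T := X.toPresheafedSpace.carrier)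
    (R := X.ringCatSheaf) F J⟩

theorem isFinitelyPresentable_cohF {𝔛 : Sys.{u}} (h : 𝔛.IsFormal) [NoetherianSpace (𝔛.X 0)] {𝔉 : ModF 𝔛 h}
    (h𝔉 : IsCohF 𝔛 h 𝔉) : IsFinitelyPresentable.{u} 𝔉 := by
  rw [isFinitelyPresentable_iff_preservesFilteredColimitsOfSize]
  have : SheafOfModules.IsFinitePresentation (R := ModSite.ringSh (𝔛.Osh h)) 𝔉 := h𝔉
  exact ⟨fun J _ _ => FpCompact.preservesColimitsOfShape_coyoneda (T := (𝔛.X 0).toPresheafedSpace.carrier)
    (R := ModSite.ringSh (𝔛.Osh h)) 𝔉 J⟩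

include f in
theorem noetherianSpace_level (n : ℕ) : NoetherianSpace ((completionAlong X 𝓘).X n) := by
  have := noetherianSpace f
  have : IsClosedImmersion (completionToX X 𝓘 n) :=
    inferInstanceAs (IsClosedImmersion (𝓘 ^ (n + 1)).subschemeι)
  exact (completionToX X 𝓘 n).isClosedEmbedding.isInducing.noetherianSpace

theorem preservesColimits_kpull : PreservesColimitsOfSize.{u, u} (kpull hX) :=
  (kap hX).adj.leftAdjoint_preservesColimits

theorem preservesFiltered_kpull : PreservesFilteredColimitsOfSize.{u, u} (kpull hX) :=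
  ⟨fun _ _ _ => (preservesColimits_kpull hX).preservesColimitsOfShape⟩

include h𝓘 in
/-- `S17045` -/
theorem bijective_isQCoh {G H : X.Modules} (hG : Coh.IsQCoh G) (hH : Coh.IsQCoh H) :
    Function.Bijective (fun φ : G ⟶ H => (kpull hX).map φ) := by
  have := isLocallyNoetherian f
  have := noetherianSpace f
  have := noetherianSpace_level (𝓘 := 𝓘) f 0
  have := preservesFiltered_kpull hX
  exact IndFunctor.bijective_map.{u} (kpull hX) (SchInd.CohX X) (fun A hA => isFinitelyPresentable_coh hA)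
    (fun A hA => isFinitelyPresentable_cohF hX (isCohF_kpull hX (isLocNoethFormal f) hA))
    (fun A B hA hB => bijective_coh hX I f h𝓘 hA hB) (SchInd.ind_of_isQCoh hG) (SchInd.ind_of_isQCoh hH)

include h𝓘 in
/-- `S17046` -/
theorem ind_iff (𝔉 : ModF (completionAlong X 𝓘) hX) :
    (ObjectProperty.ind.{u} fun 𝔊 : ModF (completionAlong X 𝓘) hX => IsCohF (completionAlong X 𝓘) hX 𝔊) 𝔉 ↔
      ∃ G : X.Modules, Coh.IsQCoh G ∧ Nonempty ((kpull hX).obj G ≅ 𝔉) := by
  have := isLocallyNoetherian f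
  have := noetherianSpace f
  have := noetherianSpace_level (𝓘 := 𝓘) f 0
  have := preservesFiltered_kpull hX
  constructor
  · intro h
    have hG : IsGrothendieckAbelian.{u} X.Modules := FTSmall.isGrothendieckAbelian X.sheaf
    have : HasFilteredColimitsOfSize.{u, u} X.Modules := ⟨fun _ _ _ => inferInstance⟩
    obtain ⟨G, hG, he⟩ := IndFunctor.exists_ind_of_ind.{u} (kpull hX) (SchInd.CohX X)
      (fun A B hA hB => bijective_coh hX I f h𝓘 hA hB) _ (fun B hB => exists_coh hX I f h𝓘 B hB) h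
    exact ⟨G, SchInd.isQCoh_of_ind hG, he⟩
  · rintro ⟨G, hG, ⟨e⟩⟩
    have hc := K181.Formal.cohCls (isLocNoethFormal (𝓘 := 𝓘) f)
    have := hc.iso
    obtain ⟨J, _, _, pres, hJ⟩ := SchInd.ind_of_isQCoh hG
    refine (ObjectProperty.ind.{u} fun 𝔊 : ModF (completionAlong X 𝓘) hX =>
      IsCohF (completionAlong X 𝓘) hX 𝔊).prop_of_iso e ?_
    have : PreservesColimitsOfShape J (kpull hX) := (preservesColimits_kpull hX).preservesColimitsOfShape
    exact ⟨J, inferInstance, inferInstance, pres.map (kpull hX),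
      fun j => isCohF_kpull hX (isLocNoethFormal f) (hJ j)⟩

end K180.KapInd
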