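import Groth.Agent.FSch.K181.FCls
import Groth.Agent.FTors.K919.SerreTors

/-!
# Weak Serre classes of modules on locally Noetherian formal schemes

* `AllCart 𝔅`: modules cartesian on every member of the good cover: weak Serre (no finiteness);
* `isWeakSerre_isCohF h𝔛`: coherent modules.
-/

set_option autoImplicit false

universe u

open CategoryTheory CategoryTheory.Limits Opposite TopologicalSpace AlgebraicGeometry
open scoped ZeroObject

namespace K180.WSer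

open K29.RSec K181.Good

section Abs

variable {T : TopCat.{u}} {R : Sheaf (Opens.grothendieckTopology T) CommRingCat.{u}} (𝔅 : GoodCov R)

/-- Modules which are cartesian on every member of the good cover. -/
def AllCart : ObjectProperty (ModSite.Mod R) := fun F => ∀ U ∈ 𝔅.B, Cart 𝔅 F U

/-- Modules which are cartesian with finitely generated sections on every member of the good cover. -/
def AllCartF : ObjectProperty (ModSite.Mod R) := fun F => ∀ U ∈ 𝔅.B, CartF 𝔅 F U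

instance : (AllCart 𝔅).IsClosedUnderIsomorphisms where
  of_iso e h U hU := (h U hU).of_iso e

instance : (AllCartF 𝔅).IsClosedUnderIsomorphisms where
  of_iso e h U hU := (h U hU).of_iso e

theorem allCart_zero {Z : ModSite.Mod R} (hZ : IsZero Z) {F : ModSite.Mod R} (hF : AllCart 𝔅 F) : AllCart 𝔅 Z := by
  intro U hU
  refine (Cart.kernel (𝟙 F) (hF U hU) (hF U hU)).of_iso ?_
  exact (isZero_kernel_of_mono (𝟙 F)).iso hZ

theorem allCart_unit : AllCart 𝔅 (ModSite.unit R) := fun _ hU => (cartF_unit 𝔅 hU).cart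

theorem allCartF_unit : AllCartF 𝔅 (ModSite.unit R) := fun _ hU => cartF_unit 𝔅 hU

instance isWeakSerre_allCart : WSerre.IsWeakSerre (AllCart 𝔅) :=
  K919.SerreTors.isWeakSerre_of _ ⟨0, isZero_zero _, allCart_zero 𝔅 (isZero_zero _) (allCart_unit 𝔅)⟩
    (fun f h1 h2 U hU => Cart.kernel f (h1 U hU) (h2 U hU))
    (fun _ hS h1 h2 U hU => Cart.coker hS (h1 U hU) (h2 U hU))
    (fun _ hS h1 h3 U hU => Cart.ext hS (h1 U hU) (h3 U hU))

theorem isWeakSerre_allCartF (hN : ∀ U ∈ 𝔅.B, IsNoetherianRing (O R U)) : WSerre.IsWeakSerre (AllCartF 𝔅) := by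
  refine K919.SerreTors.isWeakSerre_of _ ⟨0, isZero_zero _, ?_⟩ ?_ ?_ ?_
  · intro U hU
    have := hN U hU
    exact CartF.of_mono (0 : (0 : ModSite.Mod R) ⟶ ModSite.unit R) (cartF_unit 𝔅 hU)
      (allCart_zero 𝔅 (isZero_zero _) (allCart_unit 𝔅) U hU)
  · intro X Y f h1 h2 U hU
    have := hN U hU
    exact CartF.of_mono (kernel.ι f) (h1 U hU) (Cart.kernel f (h1 U hU).cart (h2 U hU).cart)
  · intro S hS h1 h2 U hU
    have := hS.epi_g
    exact CartF.of_epi S.g (h2 U hU) (Cart.coker hS (h1 U hU).cart (h2 U hU).cart)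
  · exact fun S hS h1 h3 U hU => CartF.ext hS (h1 U hU) (h3 U hU)

end Abs

section Formal

open K181.Formal

variable {𝔛 : FSch.Sys.{u}} (h𝔛 : 𝔛.IsLocNoethFormal)

theorem isCohF_iff_allCartF {𝔉 : FSch.ModF 𝔛 h𝔛.1} : FSch.IsCohF 𝔛 h𝔛.1 𝔉 ↔ AllCartF (fcov h𝔛) 𝔉 := by
  refine ⟨fun h U hU => cartF_of_coh h𝔛 h hU, fun h => (isCohF_iff h𝔛).2 fun x => ?_⟩
  obtain ⟨U, hU, hxU, -⟩ := (fcov h𝔛).exists_mem (show x ∈ (⊤ : Opens (𝔛.X 0)) from trivial)
  exact ⟨U, hxU, h U hU⟩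

theorem isCohF_eq : (fun 𝔊 : FSch.ModF 𝔛 h𝔛.1 => FSch.IsCohF 𝔛 h𝔛.1 𝔊) = AllCartF (fcov h𝔛) :=
  funext fun _ => propext (isCohF_iff_allCartF h𝔛)

/-- Coherent modules on a locally Noetherian formal scheme form a weak Serre class. -/
theorem isWeakSerre_isCohF : WSerre.IsWeakSerre (fun 𝔊 : FSch.ModF 𝔛 h𝔛.1 => FSch.IsCohF 𝔛 h𝔛.1 𝔊) := by
  rw [isCohF_eq h𝔛]
  exact isWeakSerre_allCartF _ fun _ hU => isNoetherianRing_O h𝔛 hU

/-- Ind-coherent modules are cartesian on every affine open. -/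
theorem allCart_of_ind {𝔉 : FSch.ModF 𝔛 h𝔛.1}
    (h𝔉 : (ObjectProperty.ind.{u} fun 𝔊 : FSch.ModF 𝔛 h𝔛.1 => FSch.IsCohF 𝔛 h𝔛.1 𝔊) 𝔉) :
    AllCart (fcov h𝔛) 𝔉 := fun _ hU => cart_of_indCoh h𝔛 h𝔉 hU

end Formal

end K180.WSer
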